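import Cfsg.Agent.H32.OutMcL.Perm

/-!
An upper bound for the permutations of the 275 points preserving adjacency, by a chain of
classes of equal patterns.
-/

set_option autoImplicit false
set_option Elab.async false

namespace Cfsg.Agent.H32.OutMcL

open Cfsg Cfsg.Agent.Golay Cfsg.Agent.H92.LeechOrbit MulAction

/-- The permutations preserving adjacency and fixing the listed points. -/
def autFix (l : List ℕ) : Subgroup (Equiv.Perm (Fin 275)) where
  carrier := {σ | (∀ i j, Adj (σ i) (σ j) ↔ Adj i j) ∧ ∀ p : Fin 275, p.1 ∈ l → σ p = p}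
  one_mem' := ⟨fun _ _ => Iff.rfl, fun _ _ => rfl⟩
  mul_mem' {σ τ} hs ht := ⟨fun i j => (hs.1 _ _).trans (ht.1 i j),
    fun p hp => by rw [Equiv.Perm.mul_apply, ht.2 p hp, hs.2 p hp]⟩
  inv_mem' {σ} hs := ⟨fun i j => by simpa using (hs.1 (σ⁻¹ i) (σ⁻¹ j)).symm,
    fun p hp => Equiv.Perm.inv_eq_iff_eq.2 (hs.2 p hp).symm⟩

/-- A point has the pattern of `p` against the fixed points. -/
def classTest (l : List ℕ) (p x : ℕ) : Bool :=
  l.all fun q => !Nat.beq q x && beqB (bit (adjRow q) x) (bit (adjRow q) p)

/-- The number of points with the pattern of `p`. -/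
def classCount (l : List ℕ) (p : ℕ) : ℕ := ((List.range 275).filter (classTest l p)).length

/-- The bound given by a list of base points. -/
def chainBound (l : List ℕ) : List ℕ → ℕ
  | [] => 1
  | p :: t => classCount l p * chainBound (p :: l) t

/-- The pattern of a point against a list. -/
def sigOf : List ℕ → ℕ → ℕ
  | [], _ => 0
  | q :: t, x =>
    Nat.add (Nat.mul 4 (sigOf t x))
      (bif Nat.beq q x then 1 else bif bit (adjRow q) x then 2 else 3)

/-- All entries are distinct. -/
def distinctB : List ℕ → Bool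
  | [] => true
  | a :: t => (t.all fun b => !Nat.beq a b) && distinctB t

lemma nodup_of_distinctB : ∀ {l : List ℕ}, distinctB l = true → l.Nodup
  | [], _ => List.nodup_nil
  | a :: t, h => by
    rw [distinctB, Bool.and_eq_true, List.all_eq_true] at h
    refine List.nodup_cons.2 ⟨fun ha => ?_, nodup_of_distinctB h.2⟩
    have := h.1 a ha
    simp at this

/-- The base. -/
def base : List ℕ := [255, 0, 6, 244, 1, 77, 3, 15, 37, 54, 216, 85, 114, 49, 196, 2]

theorem base_sig : distinctB ((List.range 275).map (sigOf base.reverse)) = true := by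
  decide +kernel

theorem base_bound : (Nat.beq (chainBound [] base) 1796256000 &&
    base.all fun p => decide (p < 275)) = true := by decide +kernel

lemma eq_of_sig {σ : Equiv.Perm (Fin 275)} {l : List ℕ}
    (hs : σ ∈ autFix l) (hl : ∀ p ∈ l, p < 275) (x : Fin 275) :
    sigOf l (σ x).1 = sigOf l x.1 := by
  suffices h : ∀ t : List ℕ, t ⊆ l → sigOf t (σ x).1 = sigOf t x.1 from h l (List.Subset.refl l)
  intro t
  induction t with
  | nil => exact fun _ => rfl
  | cons q t ih =>
    intro ht
    have hq : q ∈ l := ht List.mem_cons_self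
    have hfix : σ ⟨q, hl q hq⟩ = ⟨q, hl q hq⟩ := hs.2 _ hq
    have heq : Nat.beq q (σ x).1 = Nat.beq q x.1 := by
      rw [Bool.eq_iff_iff, Nat.beq_eq, Nat.beq_eq]
      constructor
      · intro e
        exact congrArg Fin.val (σ.injective (hfix.trans (Fin.ext e)) : (⟨q, hl q hq⟩ : Fin 275) = x)
      · intro e
        exact congrArg Fin.val (hfix.symm.trans (congrArg σ (Fin.ext e)) :
          (⟨q, hl q hq⟩ : Fin 275) = σ x)
    have hadj : bit (adjRow q) (σ x).1 = bit (adjRow q) x.1 := by
      have h := hs.1 ⟨q, hl q hq⟩ x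
      rw [hfix] at h
      rw [Bool.eq_iff_iff, adj_row ⟨q, hl q hq⟩ (σ x), adj_row ⟨q, hl q hq⟩ x]
      exact h
    rw [sigOf, sigOf, ih fun a ha => ht (List.mem_cons_of_mem _ ha), heq, hadj]

lemma autFix_base : autFix base.reverse = ⊥ := by
  rw [eq_bot_iff]
  intro σ hs
  rw [Subgroup.mem_bot]
  refine Equiv.ext fun x => Fin.ext ?_
  have h := base_bound
  simp only [Bool.and_eq_true, List.all_eq_true, decide_eq_true_eq] at h
  exact List.inj_on_of_nodup_map (nodup_of_distinctB base_sig) (List.mem_range.2 (σ x).2)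
    (List.mem_range.2 x.2) (eq_of_sig hs (fun p hp => h.2 p (List.mem_reverse.1 hp)) x)

lemma card_autFix_step {l : List ℕ} (hl : ∀ p ∈ l, p < 275) (p : Fin 275) (hp : p.1 ∉ l) :
    Nat.card (autFix l) ≤ classCount l p.1 * Nat.card (autFix (p.1 :: l)) := by
  rw [← Subgroup.card_mul_index (stabilizer (autFix l) p), mul_comm, MulAction.index_stabilizer]
  refine Nat.mul_le_mul ?_ (Nat.card_le_card_of_injective
    (fun g : stabilizer (autFix l) p => (⟨g.1.1, g.1.2.1, fun q hq => ?_⟩ : autFix (p.1 :: l))) ?_)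
  · rw [classCount, ← List.toFinset_card_of_nodup (List.Nodup.filter _ List.nodup_range),
      ← Set.ncard_coe_finset]
    refine Set.ncard_le_ncard_of_injOn (fun x => x.1) (fun x hx => ?_)
      (fun a _ b _ h => Fin.ext h) (Finset.finite_toSet _)
    obtain ⟨⟨σ, hs⟩, rfl⟩ := hx
    rw [Finset.mem_coe, List.mem_toFinset, List.mem_filter, List.mem_range]
    refine ⟨(σ p).2, ?_⟩
    rw [classTest, List.all_eq_true]
    intro q hq
    have hfix : σ ⟨q, hl q hq⟩ = ⟨q, hl q hq⟩ := hs.2 _ hq
    rw [Bool.and_eq_true]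
    constructor
    · rw [Bool.not_eq_true', Bool.eq_false_iff]
      intro e
      have e' : σ p = σ ⟨q, hl q hq⟩ :=
        (Fin.ext (Nat.eq_of_beq_eq_true e).symm : σ p = ⟨q, hl q hq⟩).trans hfix.symm
      exact hp (by rw [σ.injective e']; exact hq)
    · have h := hs.1 ⟨q, hl q hq⟩ p
      rw [hfix, ← adj_row ⟨q, hl q hq⟩ (σ p), ← adj_row ⟨q, hl q hq⟩ p] at h
      have e : bit (adjRow q) (σ p).1 = bit (adjRow q) p.1 := Bool.eq_iff_iff.2 h
      show beqB (bit (adjRow q) (σ p).1) (bit (adjRow q) p.1) = true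
      rw [e]; cases bit (adjRow q) p.1 <;> rfl
  · rcases List.mem_cons.1 hq with h | h
    · rw [show q = p from Fin.ext h]; exact g.2
    · exact g.1.2.2 q h
  · intro a b h
    exact Subtype.ext (Subtype.ext (congrArg (fun z : autFix (p.1 :: l) => z.1) h))

lemma card_autFix_le : ∀ (t l : List ℕ), (t.reverse ++ l).Nodup → (∀ p ∈ t.reverse ++ l, p < 275) →
    autFix (t.reverse ++ l) = ⊥ → Nat.card (autFix l) ≤ chainBound l t
  | [], l, _, _, h => by
    rw [List.reverse_nil, List.nil_append] at h
    rw [h, Subgroup.card_bot, chainBound]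
  | p :: t, l, hnd, hlt, h => by
    have e : (p :: t).reverse ++ l = t.reverse ++ p :: l := by simp
    rw [e] at hnd hlt h
    have h2 := (List.nodup_append.1 hnd).2.1
    refine (card_autFix_step (fun q hq => hlt q (List.mem_append_right _ (List.mem_cons_of_mem _ hq)))
      ⟨p, hlt p (List.mem_append_right _ List.mem_cons_self)⟩ (List.nodup_cons.1 h2).1).trans ?_
    rw [chainBound]
    exact Nat.mul_le_mul_left _ (card_autFix_le t (p :: l) hnd hlt h)

/-- At most twice as many permutations preserve adjacency as there are group elements. -/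
theorem card_autFix_nil : Nat.card (autFix []) ≤ 1796256000 := by
  have h := base_bound
  simp only [Bool.and_eq_true, List.all_eq_true, decide_eq_true_eq] at h
  rw [← Nat.eq_of_beq_eq_true h.1]
  refine card_autFix_le base [] (by rw [List.append_nil, List.nodup_reverse]; decide)
    (fun p hp => h.2 p ?_) (by rw [List.append_nil]; exact autFix_base)
  rwa [List.append_nil, List.mem_reverse] at hp

end Cfsg.Agent.H32.OutMcL
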