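import Cfsg.Agent.H32.OutMcL.Pair
import Cfsg.Agent.H32.OutMcL.Bound
import Cfsg.Prelude.Def_KGroupFacts

/-!
The automorphism group of the stabiliser of a triangle of type 2-2-3 of the lattice.
-/

set_option autoImplicit false
set_option Elab.async false
set_option linter.style.haveILetI false

namespace Cfsg.Agent.H32.OutMcL

open Cfsg Cfsg.Agent.Golay Cfsg.Agent.H92.LeechOrbit MulAction

/-! ### The stabiliser of a point fixes no other point -/

lemma only_ptA (j : Fin 275) (hj : ∀ h ∈ stabilizer McG ptA, h • j = j) : j = ptA := by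
  have h1 : orbit (stabilizer McG ptA) j = {j} := by
    ext x
    constructor
    · rintro ⟨g, rfl⟩; exact hj g.1 g.2
    · rintro rfl; exact mem_orbit_self _
  have h3 := near_far_N
  rw [Bool.and_eq_true] at h3
  rcases dot_cases j with h | h | h
  · exact h
  · obtain ⟨e1, e2⟩ := sub_orbit mclNearCert_ok mclNearCert_cover near_refs h
    rw [← e1, h1, Set.ncard_singleton, Nat.eq_of_beq_eq_true h3.1] at e2
    exact absurd e2 (by norm_num)
  · obtain ⟨e1, e2⟩ := sub_orbit mclFarCert_ok mclFarCert_cover far_refs h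
    rw [← e1, h1, Set.ncard_singleton, Nat.eq_of_beq_eq_true h3.2] at e2
    exact absurd e2 (by norm_num)

lemma conj_injective_mcl : Function.Injective (MulAut.conj : McG →* MulAut McG) := by
  rw [injective_iff_map_eq_one]
  intro m hm
  have hc : ∀ x : McG, m * x = x * m := fun x => by
    have h : m * x * m⁻¹ = x := by
      rw [← MulAut.conj_apply, hm, MulAut.one_apply]
    exact mul_inv_eq_iff_eq_mul.1 h
  have hA : m • ptA = ptA := only_ptA _ fun h hh => by
    rw [← mul_smul, ← hc, mul_smul, show h • ptA = ptA from hh]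
  refine eq_of_smul_eq_smul fun x : Fin 275 => ?_
  obtain ⟨g, rfl⟩ := exists_smul_eq McG ptA x
  rw [← mul_smul, hc, mul_smul, hA, one_smul]

/-! ### Automorphisms as permutations -/

lemma exists_autPerm (φ : MulAut McG) : ∃ ψ : autFix [],
    ∀ (g : McG) z, ψ.1 (g • z) = φ g • ψ.1 z := by
  obtain ⟨ψ, h1, h2⟩ := EdgeData.exists_perm edgeData (fun i j => Adj i j) adj_smul
    (fun z => Set.ext_iff.1 orbit_ptB.symm z) other_orbit φ
  exact ⟨⟨ψ, h2, fun p hp => absurd hp (List.not_mem_nil)⟩, h1⟩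

lemma card_mulAut_le : Finite (MulAut McG) ∧ Nat.card (MulAut McG) ≤ 1796256000 := by
  choose f hf using exists_autPerm
  have hinj : Function.Injective f := by
    intro φ φ' h
    refine MulEquiv.ext fun g => eq_of_smul_eq_smul fun y : Fin 275 => ?_
    obtain ⟨z, rfl⟩ : ∃ z, (f φ).1 z = y := ⟨(f φ).1.symm y, Equiv.apply_symm_apply _ _⟩
    rw [← hf φ g z, h, ← hf φ' g z]
  exact ⟨Finite.of_injective f hinj,
    (Nat.card_le_card_of_injective f hinj).trans card_autFix_nil⟩

/-! ### An outer automorphism -/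

/-- The coefficients of a relation between the points and the two reference vectors. -/
def relTerms : List (Fin 275 × ℤ) := [(0, -2), (1, 5), (2, -8), (3, -5), (4, -8), (5, -12), (6, 4), (7, 16), (8, -8), (9, 18), (10, -2), (11, -3), (12, 1), (13, 4), (14, 1), (15, -6), (16, 7), (19, 15), (20, -9), (28, 6), (40, 6), (56, 6)]

/-- A vector whose inner product with the first reference vector is eight. -/
def zCode : ℕ := 42255020007607646716556773580

theorem rel_ok : (decide (inLeech (dec zCode) = true) &&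
    decide ((relTerms.map fun t => t.2).sum = 26) &&
    decide (∀ p, 12 * dec zCode p = (relTerms.map fun t => t.2 * dec (mclCert.code t.1.1) p).sum
      + -12 * dec u48Code p + 2 * dec v32Code p) &&
    decide (∃ p, dec u48Code p = 1)) = true := by decide +kernel

lemma smul_add_hom (g : Co0) : ∃ F : leechLattice →+ leechLattice, ∀ x, F x = g • x + x :=
  ⟨{ toFun := fun x => g • x + x
     map_zero' := by rw [co0_smul_zero, add_zero]
     map_add' := fun x y => by rw [co0_smul_add]; abel }, fun _ => rfl⟩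

lemma refs_mcl : mclCert.refs = [(u48Code, 24), (v32Code, 16)] := rfl

lemma dot_refs (i : Fin 275) : sqNorm (vec i).1 = 32 ∧ dotInt refU.1 (vec i).1 = 24 ∧
    dotInt refV.1 (vec i).1 = 16 := by
  obtain ⟨h1, h2⟩ : vec i ∈ target mclCert := mem_target_iff.2 ⟨i, rfl⟩
  exact ⟨h1, h2 (u48Code, 24) (by simp [refs_mcl]), h2 (v32Code, 16) (by simp [refs_mcl])⟩

/-- No element centralising the group moves the second reference vector to the difference. -/
lemma no_central {g : Co0} (hu : g • refU = refU) (hv : g • refV = refU - refV)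
    (hc : ∀ x : McG, g * x.1 = x.1 * g) : False := by
  obtain ⟨a1, a2, a3⟩ := dot_refs ptA
  have hsub : ∀ a b c : GolayPt → ℤ, dotInt (a - b) c = dotInt a c - dotInt b c ∧
      dotInt c (a - b) = dotInt c a - dotInt c b ∧ dotInt a c = dotInt c a := by
    intro a b c
    simp only [dotInt, Pi.sub_apply, sub_mul, mul_sub, Finset.sum_sub_distrib, mul_comm, and_self]
  have hnorm : ∀ a : GolayPt → ℤ, sqNorm a = dotInt a a := fun a => by
    simp [sqNorm, dotInt, pow_two]
  set y : leechLattice := g • vec ptA with hy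
  have y1 : sqNorm y.1 = 32 := by rw [hy, co0_sqNorm]; exact a1
  have y2 : dotInt refU.1 y.1 = 24 := by
    have h := co0_dot g refU (vec ptA)
    rw [hu] at h; rw [hy, h]; exact a2
  have y3 : dotInt refV.1 y.1 = 8 := by
    have h := co0_dot g refV (vec ptA)
    rw [hv, AddSubgroup.coe_sub, (hsub _ _ _).1, ← hy, a3, y2] at h
    omega
  have huu : dotInt refU.1 refU.1 = 48 := by rw [← hnorm]; exact ref_facts.2.1.1
  have huv : dotInt refV.1 refU.1 = 24 := by
    show dotInt (dec v32Code) (dec u48Code) = 24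
    decide +kernel
  have hmem : refU - y ∈ target mclCert := by
    refine ⟨?_, fun r hr => ?_⟩
    · rw [AddSubgroup.coe_sub, hnorm, (hsub _ _ _).1, (hsub _ _ _).2.1, (hsub _ _ _).2.1,
        (hsub y.1 0 refU.1).2.2, huu, y2, ← hnorm, y1]
      norm_num
    · rw [refs_mcl, List.mem_cons, List.mem_singleton] at hr
      rcases hr with rfl | rfl
      · show dotInt refU.1 (refU - y).1 = 24
        rw [AddSubgroup.coe_sub, (hsub _ _ _).2.1, huu, y2]; norm_num
      · show dotInt refV.1 (refU - y).1 = 16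
        rw [AddSubgroup.coe_sub, (hsub _ _ _).2.1, huv, y3]; norm_num
  obtain ⟨j, hj⟩ := mem_target_iff.1 hmem
  have hxu : ∀ x : McG, x.1 • refU = refU := fun x => by
    exact ((SetLike.ext_iff.1 mclG_eq x.1).1 x.2).1
  have hjA : j = ptA := only_ptA j fun h hh => vec_injective (by
    rw [vec_smul, hj, co0_smul_sub, hxu, hy, ← mul_smul, ← hc, mul_smul, ← vec_smul,
      show h • ptA = ptA from hh])
  have hA : g • vec ptA = refU - vec ptA := by
    have e : refU - y = vec ptA := by rw [← hj, hjA]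
    show y = _
    rw [← e, sub_sub_cancel]
  have hall : ∀ i, g • vec i + vec i = refU := by
    intro i
    obtain ⟨h, rfl⟩ := exists_smul_eq McG ptA i
    rw [vec_smul, ← mul_smul, hc, mul_smul, hA, co0_smul_sub, hxu, sub_add_cancel]
  obtain ⟨F, hF⟩ := smul_add_hom g
  have hr := rel_ok
  simp only [Bool.and_eq_true, decide_eq_true_eq] at hr
  obtain ⟨⟨⟨hz, hsum⟩, hid⟩, p, hp⟩ := hr
  set z : leechLattice := ⟨dec zCode, mem_of_inLeech hz⟩ with hzdef
  have hsumval : ∀ (l : List (Fin 275 × ℤ)) q, (((l.map fun t => t.2 • vec t.1).sum).1) q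
      = (l.map fun t => t.2 * dec (mclCert.code t.1.1) q).sum := by
    intro l q
    induction l with
    | nil => rfl
    | cons t l ih =>
      rw [List.map_cons, List.sum_cons, List.map_cons, List.sum_cons, AddSubgroup.coe_add,
        Pi.add_apply, ih, AddSubgroup.coe_zsmul, Pi.smul_apply, smul_eq_mul, vec_dec]
  have hrel : (12 : ℤ) • z = (relTerms.map fun t => t.2 • vec t.1).sum + (-12 : ℤ) • refU
      + (2 : ℤ) • refV := by
    refine Subtype.ext (funext fun q => ?_)
    simp only [AddSubgroup.coe_add, AddSubgroup.coe_zsmul, Pi.add_apply, Pi.smul_apply,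
      smul_eq_mul, hsumval]
    exact hid q
  have h := congrArg F hrel
  have hFs : ∀ l : List (Fin 275 × ℤ),
      F (l.map fun t => t.2 • vec t.1).sum = (l.map fun t => t.2).sum • refU := by
    intro l
    induction l with
    | nil => simp
    | cons t l ih =>
      simp only [List.map_cons, List.sum_cons, map_add, map_zsmul, ih, hF (vec t.1), hall, add_smul]
  rw [map_zsmul, map_add, map_add, map_zsmul, map_zsmul, hFs, hsum, hF refU, hF refV, hu, hv,
    sub_add_cancel] at h
  have h2 := congrArg (fun w : leechLattice => w.1 p) h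
  simp only [AddSubgroup.coe_add, AddSubgroup.coe_zsmul, Pi.add_apply, Pi.smul_apply,
    smul_eq_mul, show refU.1 p = 1 from hp] at h2
  omega

lemma exists_swap : ∃ g : Co0, g • refU = refU ∧ g • refV = refU - refV ∧
    g • (refU - refV) = refV := by
  obtain ⟨k, k1, k2⟩ := exists_move_edge refU (refU - refV) ref_facts.2.1.1
    ⟨ref_facts.2.2.1.2.1, by
      rw [AddSubgroup.coe_sub, sub_sub_cancel]; exact ref_facts.2.1.2.1⟩
  refine ⟨k, k1, ?_, k2⟩
  have h := k2
  rw [co0_smul_sub, k1] at h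
  rw [sub_eq_iff_eq_add] at h
  rw [h]
  abel

lemma exists_outer : ∃ φ : MulAut McG, φ ∉ Inn McG := by
  obtain ⟨g, gu, gv, gw⟩ := exists_swap
  have mem : ∀ {x : Co0}, x ∈ McG ↔ x • refU = refU ∧ x • refV = refV := fun {x} => by
    rw [mclG_eq]; rfl
  have hgn : ∀ x ∈ McG, g * x * g⁻¹ ∈ McG := by
    intro x hx
    obtain ⟨xu, xv⟩ := mem.1 hx
    refine mem.2 ⟨?_, ?_⟩
    · rw [mul_smul, mul_smul, inv_smul_eq_iff.2 gu.symm, xu, gu]
    · rw [mul_smul, mul_smul, inv_smul_eq_iff.2 gw.symm, co0_smul_sub, xu, xv, gw]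
  have hgn' : ∀ x ∈ McG, g⁻¹ * x * g ∈ McG := by
    intro x hx
    obtain ⟨xu, xv⟩ := mem.1 hx
    refine mem.2 ⟨?_, ?_⟩
    · rw [mul_smul, mul_smul, gu, xu, inv_smul_eq_iff.2 gu.symm]
    · rw [mul_smul, mul_smul, gv, co0_smul_sub, xu, xv, inv_smul_eq_iff.2 gv.symm]
  let φ : MulAut McG :=
    { toFun := fun x => ⟨g * x.1 * g⁻¹, hgn _ x.2⟩
      invFun := fun x => ⟨g⁻¹ * x.1 * g, hgn' _ x.2⟩
      left_inv := fun x => Subtype.ext (by show g⁻¹ * (g * x.1 * g⁻¹) * g = x.1; group)
      right_inv := fun x => Subtype.ext (by show g * (g⁻¹ * x.1 * g) * g⁻¹ = x.1; group)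
      map_mul' := fun x y => Subtype.ext (by
        show g * (x.1 * y.1) * g⁻¹ = (g * x.1 * g⁻¹) * (g * y.1 * g⁻¹)
        group) }
  refine ⟨φ, ?_⟩
  rintro ⟨m, hm⟩
  obtain ⟨mu, mv⟩ := mem.1 m.2
  refine no_central (g := m.1⁻¹ * g) ?_ ?_ fun x => ?_
  · rw [mul_smul, gu, inv_smul_eq_iff, mu]
  · rw [mul_smul, gv, inv_smul_eq_iff, co0_smul_sub, mu, mv]
  · have h : m.1 * x.1 * m.1⁻¹ = g * x.1 * g⁻¹ :=
      congrArg (fun f : MulAut McG => (f x).1) hm
    calc m.1⁻¹ * g * x.1 = m.1⁻¹ * (g * x.1 * g⁻¹) * g := by group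
      _ = m.1⁻¹ * (m.1 * x.1 * m.1⁻¹) * g := by rw [h]
      _ = x.1 * (m.1⁻¹ * g) := by group

theorem card_mulAut_mcl : Nat.card (MulAut McG) = 1796256000 := by
  obtain ⟨hfin, hle⟩ := card_mulAut_le
  have h1 : Nat.card (Inn McG) = 898128000 := by
    rw [← card_mclG]
    exact (Nat.card_congr (MonoidHom.ofInjective conj_injective_mcl).toEquiv).symm
  have h2 := (Inn McG).card_mul_index
  rw [h1] at h2
  have h3 : (Inn McG).index ≠ 1 := by
    rw [ne_eq, Subgroup.index_eq_one]
    obtain ⟨φ, hφ⟩ := exists_outer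
    exact fun h => hφ (h ▸ Subgroup.mem_top φ)
  have h4 : (Inn McG).index ≠ 0 := Subgroup.index_ne_zero_of_finite
  omega

/-! ### Transfer to the standard copy -/

/-- The two reference vectors of the standard copy. -/
def mclStab : Subgroup Co0 := stabilizer Co0 Spor.leechV ⊓ stabilizer Co0 (-Spor.leechU)

lemma map_mclStab : mclStab.map Co0.subtype = Spor.McL := by
  ext σ
  constructor
  · rintro ⟨g, ⟨hg1, hg2⟩, rfl⟩
    refine ⟨⟨g.2, hg1⟩, ?_⟩
    have h : g • Spor.leechU = Spor.leechU := by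
      have e : g • (-Spor.leechU) = -Spor.leechU := hg2
      rw [co0_smul_neg] at e
      exact neg_injective e
    exact h
  · rintro ⟨⟨h0, h1⟩, h2⟩
    refine ⟨⟨σ, h0⟩, ⟨h1, ?_⟩, rfl⟩
    show (⟨σ, h0⟩ : Co0) • (-Spor.leechU) = -Spor.leechU
    rw [co0_smul_neg, show (⟨σ, h0⟩ : Co0) • Spor.leechU = Spor.leechU from h2]

theorem leech_edge : sqNorm Spor.leechV.1 = 48 ∧ sqNorm (-Spor.leechU).1 = 32 ∧
    sqNorm (Spor.leechV.1 - (-Spor.leechU).1) = 32 := by decide +kernel

/-- The outer automorphism group of the standard copy has order two. -/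
theorem card_out_mcl : Nat.card (Cfsg.Out ↥Spor.McL) = 2 := by
  obtain ⟨k, k1, k2⟩ := exists_move_edge Spor.leechV (-Spor.leechU) leech_edge.1
    ⟨leech_edge.2.1, leech_edge.2.2⟩
  have hp : k • (Spor.leechV, -Spor.leechU) = ((refU, refV) : leechLattice × leechLattice) :=
    Prod.ext k1 k2
  let E : McG ≃* Spor.McL :=
    (((MulEquiv.subgroupCongr (mclG_eq.trans (stabilizer_inf_eq_prod refU refV))).trans
      (MulAction.stabilizerEquivStabilizer hp.symm).symm).trans
      (MulEquiv.subgroupCongr (stabilizer_inf_eq_prod _ _)).symm).trans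
      ((mclStab.equivMapOfInjective _ Co0.subtype_injective).trans
        (MulEquiv.subgroupCongr map_mclStab))
  have hA : Nat.card (MulAut Spor.McL) = 1796256000 :=
    (Nat.card_congr (MulAut.congr E).toEquiv).symm.trans card_mulAut_mcl
  have hi : Function.Injective (MulAut.conj : Spor.McL →* MulAut Spor.McL) := by
    intro x y h
    obtain ⟨x, rfl⟩ := E.surjective x
    obtain ⟨y, rfl⟩ := E.surjective y
    refine congrArg E (conj_injective_mcl (MulEquiv.ext fun w => E.injective ?_))
    have := DFunLike.congr_fun h (E w)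
    simpa [MulAut.conj_apply] using this
  have h1 : Nat.card (Inn Spor.McL) = 898128000 := by
    rw [← card_mclG, Nat.card_congr E.toEquiv]
    exact (Nat.card_congr (MonoidHom.ofInjective hi).toEquiv).symm
  have h2 := (Inn Spor.McL).card_mul_index
  rw [h1, hA] at h2
  show (Inn Spor.McL).index = 2
  omega

end Cfsg.Agent.H32.OutMcL
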