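import Mathlib

/-!
Automorphisms of a transitive group on 275 points whose class of point stabilisers is recognised by
the subgroup fixing an adjacent pair.
-/

set_option autoImplicit false
set_option linter.unusedSectionVars false
set_option linter.style.haveILetI false

namespace Cfsg.Agent.H32.OutMcL

open MulAction Subgroup
open scoped Pointwise

variable {G Ω : Type*} [Group G] [MulAction G Ω]

/-- The numeric and combinatorial data used to follow the class of point stabilisers. -/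
structure EdgeData (G Ω : Type*) [Group G] [MulAction G Ω] where
  a : Ω
  b : Ω
  c : Ω
  P : Subgroup G
  A : Subgroup G
  E : Subgroup G
  ne : a ≠ b
  mem_E : ∀ g, g ∈ E ↔ g • a = a ∧ g • b = b
  card_G : Nat.card G = 898128000
  card_H : Nat.card (stabilizer G a) = 3265920
  card_H' : Nat.card (stabilizer G b) = 3265920
  card_E : Nat.card E = 29160
  card_orb : (orbit (stabilizer G a) b).ncard = 112
  card_P : Nat.card P = 729
  A_le_P : A ≤ P
  card_A : Nat.card A = 81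
  A_unique : ∀ B : Subgroup G, B ≤ P → Nat.card B = 81 → (∀ x ∈ B, x ^ 3 = 1) →
    (∀ x ∈ B, ∀ y ∈ B, x * y = y * x) → B = A
  A_exp : ∀ x ∈ A, x ^ 3 = 1
  A_comm : ∀ x ∈ A, ∀ y ∈ A, x * y = y * x
  fix_A : ∀ z : Ω, (∀ t ∈ A, t • z = z) → z = a ∨ z = b
  A_fix : ∀ t ∈ A, t • a = a ∧ t • b = b
  E_norm : E ≤ Subgroup.normalizer (A : Set G)
  E_gen : E ≤ Subgroup.closure {x | x ∈ E ∧ x ^ 3 = 1}
  set_a : ∀ S : Set Ω, (∀ e ∈ E, ∀ z ∈ S, e • z ∈ S) → a ∈ S → S.ncard ∣ 112 →
    S = {a} ∨ S = {a, b} ∨ (b ∉ S ∧ c ∈ S)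
  set_b : ∀ S : Set Ω, (∀ e ∈ E, ∀ z ∈ S, e • z ∈ S) → b ∈ S → S.ncard ∣ 112 →
    S = {b} ∨ S = {a, b} ∨ (a ∉ S ∧ c ∈ S)
  set_nbr : ∀ S : Set Ω, (∀ e ∈ E, ∀ z ∈ S, e • z ∈ S) → b ∈ S →
    S ⊆ orbit (stabilizer G a) b → S.ncard ∣ 112 → S = {b} ∨ S.ncard = 112

namespace EdgeData

variable [Finite G] (D : EdgeData G Ω)

lemma E_le_stab : D.E ≤ stabilizer G D.a := fun g hg => ((D.mem_E g).1 hg).1

lemma smul_eq_of_cube {x : G} (hx : x ^ 729 = 1)
    (hset : ∀ z, (z = D.a ∨ z = D.b) → x • z = D.a ∨ x • z = D.b) : x • D.a = D.a ∧ x • D.b = D.b := by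
  have key : x • D.a = D.a := by
    rcases hset D.a (Or.inl rfl) with h | h
    · exact h
    exfalso
    have h2 : x • D.b = D.a := by
      rcases hset D.b (Or.inr rfl) with h' | h'
      · exact h'
      · exact absurd (MulAction.injective x (h.trans h'.symm)) D.ne
    have hfix : (x ^ 2) • D.a = D.a := by rw [pow_two, mul_smul, h, h2]
    have hpow : ∀ k : ℕ, ((x ^ 2) ^ k) • D.a = D.a := by
      intro k
      induction k with
      | zero => rw [pow_zero, one_smul]
      | succ k ih => rw [pow_succ, mul_smul, hfix, ih]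
    have : x • D.a = D.a := by
      have h3 := hpow 365
      rwa [← pow_mul, show 2 * 365 = 729 + 1 by norm_num, pow_add, hx, one_mul, pow_one] at h3
    exact D.ne (this.symm.trans h)
  refine ⟨key, ?_⟩
  rcases hset D.b (Or.inr rfl) with h | h
  · exact absurd (MulAction.injective x (h.trans key.symm)).symm D.ne
  · exact h

/-- The subgroup fixing the pair is generated by the elements of three-power order normalising the
elementary subgroup. -/
lemma E_eq : D.E = Subgroup.closure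
    {x | x ∈ Subgroup.normalizer (D.A : Set G) ∧ x ^ 729 = 1} := by
  refine le_antisymm (D.E_gen.trans (Subgroup.closure_mono fun x hx =>
    ⟨D.E_norm hx.1, ?_⟩)) ((Subgroup.closure_le _).2 ?_)
  · rw [show 729 = 3 * 243 by norm_num, pow_mul, hx.2, one_pow]
  · rintro x ⟨hx, h729⟩
    refine (D.mem_E x).2 (D.smul_eq_of_cube h729 fun z hz => ?_)
    refine D.fix_A _ fun t ht => ?_
    have ht' : x⁻¹ * t * x ∈ D.A := by
      have := (Subgroup.mem_normalizer_iff'.1 hx (x⁻¹ * t)).2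
        (by rwa [mul_inv_cancel_left])
      exact this
    have hfz : (x⁻¹ * t * x) • z = z := by
      rcases hz with rfl | rfl
      exacts [(D.A_fix _ ht').1, (D.A_fix _ ht').2]
    rw [mul_smul, mul_smul, inv_smul_eq_iff] at hfz
    exact hfz

/-- The point stabiliser is generated by its elements of order three. -/
lemma stab_gen :
    stabilizer G D.a ≤ Subgroup.closure {x | x ∈ stabilizer G D.a ∧ x ^ 3 = 1} := by
  set H := stabilizer G D.a with hH
  set N := Subgroup.closure {x | x ∈ H ∧ x ^ 3 = 1} with hN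
  have hNH : N ≤ H := (Subgroup.closure_le _).2 fun x hx => hx.1
  have hEN : D.E ≤ N := D.E_gen.trans (Subgroup.closure_mono fun x hx => ⟨D.E_le_stab hx.1, hx.2⟩)
  have hconj : ∀ h ∈ H, ∀ n ∈ N, h * n * h⁻¹ ∈ N := by
    intro h hh n hn
    refine (show N ≤ N.comap (MulAut.conj h).toMonoidHom from (Subgroup.closure_le _).2 ?_) hn
    rintro x ⟨hx, hx3⟩
    refine Subgroup.subset_closure ⟨mul_mem (mul_mem hh hx) (inv_mem hh), ?_⟩
    show ((MulAut.conj h) x) ^ 3 = 1
    rw [← map_pow, hx3, map_one]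
  set S := orbit N D.b with hS
  have hSinv : ∀ e ∈ D.E, ∀ z ∈ S, e • z ∈ S := by
    rintro e he _ ⟨n, rfl⟩
    exact ⟨⟨e, hEN he⟩ * n, mul_smul e (n : G) D.b⟩
  have hSsub : S ⊆ orbit H D.b := by
    rintro _ ⟨n, rfl⟩
    exact ⟨⟨n.1, hNH n.2⟩, rfl⟩
  have hstab : Nat.card (stabilizer N D.b) = 29160 := by
    rw [← D.card_E]
    refine Nat.card_congr ⟨fun n => ⟨n.1.1, (D.mem_E _).2 ⟨hNH n.1.2, n.2⟩⟩,
      fun e => ⟨⟨e.1, hEN e.2⟩, ((D.mem_E _).1 e.2).2⟩, fun n => rfl, fun e => rfl⟩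
  have hcardN : S.ncard * 29160 = Nat.card N := by
    rw [← Nat.card_coe_set_eq, ← hstab, hS, ← Nat.card_prod]
    exact Nat.card_congr (orbitProdStabilizerEquivGroup N D.b)
  have hdvd : S.ncard ∣ 112 := by
    refine Nat.dvd_of_mul_dvd_mul_right (by norm_num : 0 < 29160) ?_
    rw [hcardN, show 112 * 29160 = 3265920 by norm_num, ← D.card_H]
    exact Subgroup.card_dvd_of_le hNH
  rcases D.set_nbr S hSinv (mem_orbit_self _) hSsub hdvd with h | h
  · exfalso
    have hfix : ∀ z ∈ orbit H D.b, ∀ e ∈ D.E, e • z = z := by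
      rintro _ ⟨t, rfl⟩ e he
      have hm : t.1⁻¹ * e * t.1 ∈ N := by
        have := hconj t.1⁻¹ (inv_mem t.2) e (hEN he)
        rwa [inv_inv] at this
      have : (t.1⁻¹ * e * t.1) • D.b = D.b := by
        have h1 : (t.1⁻¹ * e * t.1) • D.b ∈ S := ⟨⟨_, hm⟩, rfl⟩
        rwa [h] at h1
      rw [mul_smul, mul_smul, inv_smul_eq_iff] at this
      exact this
    obtain ⟨z, hz, hzb⟩ := Set.exists_ne_of_one_lt_ncard
      (show 1 < (orbit H D.b).ncard by rw [D.card_orb]; norm_num) D.b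
    rcases D.fix_A z (fun t ht => hfix z hz t ((D.mem_E t).2 (D.A_fix t ht))) with rfl | rfl
    · obtain ⟨t, ht⟩ := hz
      exact D.ne (MulAction.injective t.1 (show t.1 • D.a = t.1 • D.b from
        (show t.1 • D.a = D.a from t.2).trans ht.symm))
    · exact hzb rfl
  · refine (Subgroup.eq_of_le_of_card_ge hNH ?_).ge
    rw [← hcardN, h, D.card_H]

/-- A conjugate of the point stabiliser containing `E` fixes one of the two points. -/
lemma exists_fixed {K : Subgroup G} (hEK : D.E ≤ K) (hcard : Nat.card K = 3265920)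
    (hgen : K ≤ Subgroup.closure {x | x ∈ K ∧ x ^ 3 = 1}) :
    ∃ z : Ω, ∀ k ∈ K, k • z = z := by
  have hinv : ∀ z : Ω, ∀ e ∈ D.E, ∀ y ∈ orbit K z, e • y ∈ orbit K z := by
    rintro z e he _ ⟨k, rfl⟩
    exact ⟨⟨e, hEK he⟩ * k, mul_smul e (k : G) z⟩
  have hdvd : ∀ z : Ω, (∀ e ∈ D.E, e • z = z) → (orbit K z).ncard ∣ 112 := by
    intro z hz
    have h1 : (orbit K z).ncard * Nat.card (stabilizer K z) = 3265920 := by
      rw [← Nat.card_coe_set_eq, ← Nat.card_prod, ← hcard]
      exact Nat.card_congr (orbitProdStabilizerEquivGroup K z)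
    have h2 : D.E.subgroupOf K ≤ stabilizer K z := fun k hk => hz k.1 hk
    have h3 : 29160 ∣ Nat.card (stabilizer K z) := by
      rw [← D.card_E, ← Nat.card_congr (Subgroup.subgroupOfEquivOfLe hEK).toEquiv]
      exact Subgroup.card_dvd_of_le h2
    obtain ⟨m, hm⟩ := h3
    refine Dvd.intro m ?_
    rw [hm] at h1
    nlinarith
  have hone : ∀ z : Ω, orbit K z = {z} → ∀ k ∈ K, k • z = z := by
    intro z h k hk
    have h1 : k • z ∈ orbit K z := ⟨⟨k, hk⟩, rfl⟩
    rwa [h] at h1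
  have htwo : orbit K D.a ≠ {D.a, D.b} := by
    intro h
    obtain ⟨k0, hk0⟩ : D.b ∈ orbit K D.a := by rw [h]; simp
    have hpair : ∀ k ∈ K, ∀ z, (z = D.a ∨ z = D.b) → k • z = D.a ∨ k • z = D.b := by
      intro k hk z hz
      have hz' : z ∈ orbit K D.a := by rw [h]; simpa using hz
      obtain ⟨k', rfl⟩ := hz'
      have : k • (k' • D.a) ∈ orbit K D.a := ⟨⟨k, hk⟩ * k', mul_smul k (k' : G) D.a⟩
      rw [h] at this
      simpa using this
    have hall : K ≤ stabilizer G D.a := hgen.trans ((Subgroup.closure_le _).2 fun x hx =>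
      (D.smul_eq_of_cube (by rw [show 729 = 3 * 243 by norm_num, pow_mul, hx.2, one_pow])
        (hpair x hx.1)).1)
    exact D.ne ((show (k0 : G) • D.a = D.a from hall k0.2).symm.trans hk0)
  have hEa : ∀ e ∈ D.E, e • D.a = D.a := fun e he => ((D.mem_E e).1 he).1
  have hEb : ∀ e ∈ D.E, e • D.b = D.b := fun e he => ((D.mem_E e).1 he).2
  rcases D.set_a _ (hinv D.a) (mem_orbit_self _) (hdvd _ hEa) with h | h | ⟨hb, hc⟩
  · exact ⟨D.a, hone _ h⟩
  · exact absurd h htwo
  rcases D.set_b _ (hinv D.b) (mem_orbit_self _) (hdvd _ hEb) with h | h | ⟨-, hc'⟩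
  · exact ⟨D.b, hone _ h⟩
  · have : D.a ∈ orbit K D.b := by rw [h]; simp
    exact absurd (orbit_eq_iff.2 this ▸ mem_orbit_self D.b) hb
  · exact absurd ((orbit_eq_iff.2 hc).symm.trans (orbit_eq_iff.2 hc') ▸ mem_orbit_self D.b) hb

/-- Some conjugate of an automorphism fixes the subgroup fixing the pair. -/
lemma exists_conj_E (φ : MulAut G) :
    ∃ g : G, D.E.map (MulAut.conj g * φ).toMonoidHom = D.E := by
  haveI : Fact (Nat.Prime 3) := ⟨Nat.prime_three⟩
  have hfac : (Nat.card G).factorization 3 = 6 := by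
    rw [D.card_G, show (898128000 : ℕ) = 3 ^ 6 * 1232000 by norm_num,
      Nat.factorization_mul (by norm_num) (by norm_num), Finsupp.add_apply,
      Nat.factorization_eq_zero_of_not_dvd (show ¬ 3 ∣ 1232000 by norm_num), add_zero,
      Nat.Prime.factorization_pow Nat.prime_three, Finsupp.single_eq_same]
  let S1 : Sylow 3 G := Sylow.ofCard D.P (by rw [hfac, D.card_P]; norm_num)
  let S2 : Sylow 3 G := Sylow.ofCard (D.P.map φ.toMonoidHom) (by
    rw [hfac, Subgroup.card_map_of_injective φ.injective, D.card_P]; norm_num)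
  obtain ⟨g, hg⟩ := MulAction.exists_smul_eq G S2 S1
  refine ⟨g, ?_⟩
  set ψ := MulAut.conj g * φ with hψ
  have hP : D.P.map ψ.toMonoidHom = D.P := by
    have h1 : ((g • S2 : Sylow 3 G) : Subgroup G) = (S1 : Subgroup G) := by rw [hg]
    have h2 : (D.P.map φ.toMonoidHom).map (MulAut.conj g).toMonoidHom = D.P := h1
    exact (Subgroup.map_map _ _ _).symm.trans h2
  have hA : D.A.map ψ.toMonoidHom = D.A := by
    refine D.A_unique _ (hP ▸ Subgroup.map_mono D.A_le_P)
      (by rw [Subgroup.card_map_of_injective ψ.injective, D.card_A]) ?_ ?_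
    · rintro _ ⟨x, hx, rfl⟩
      rw [← map_pow, D.A_exp x hx, map_one]
    · rintro _ ⟨x, hx, rfl⟩ _ ⟨y, hy, rfl⟩
      rw [← map_mul, D.A_comm x hx y hy, map_mul]
  rw [D.E_eq, MonoidHom.map_closure]
  congr 1
  have hmem : ∀ x, ψ x ∈ Subgroup.normalizer (D.A : Set G) ↔
      x ∈ Subgroup.normalizer (D.A : Set G) := by
    intro x
    have hiff : ∀ y, ψ y ∈ D.A ↔ y ∈ D.A := by
      intro y
      constructor
      · intro hy
        rw [← hA] at hy
        obtain ⟨z, hz, hzy⟩ := hy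
        rwa [← ψ.injective hzy]
      · intro hy
        rw [← hA]
        exact Subgroup.mem_map_of_mem _ hy
    rw [Subgroup.mem_normalizer_iff, Subgroup.mem_normalizer_iff]
    constructor
    · intro h y
      have := h (ψ y)
      rwa [← map_inv ψ, ← map_mul, ← map_mul, hiff, hiff] at this
    · intro h y
      obtain ⟨z, rfl⟩ := ψ.surjective y
      rw [← map_inv ψ, ← map_mul, ← map_mul, hiff, hiff]
      exact h z
  ext x
  constructor
  · rintro ⟨y, ⟨hy, hy3⟩, rfl⟩
    exact ⟨(hmem y).2 hy, by show (ψ y) ^ 729 = 1; rw [← map_pow, hy3, map_one]⟩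
  · rintro ⟨hx, hx3⟩
    obtain ⟨y, rfl⟩ := ψ.surjective x
    exact ⟨y, ⟨(hmem y).1 hx, ψ.injective (by rw [map_pow, hx3, map_one])⟩, rfl⟩

/-- An automorphism normalised to fix the point stabiliser. -/
lemma exists_conj_stab [IsPretransitive G Ω] (φ : MulAut G) :
    ∃ g : G, ∀ x, (MulAut.conj g * φ) x • D.a = D.a ↔ x • D.a = D.a := by
  obtain ⟨g, hg⟩ := D.exists_conj_E φ
  set ψ := MulAut.conj g * φ with hψ
  set H := stabilizer G D.a with hH
  obtain ⟨z, hz⟩ := D.exists_fixed (K := H.map ψ.toMonoidHom)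
    (hg ▸ Subgroup.map_mono D.E_le_stab)
    (by rw [Subgroup.card_map_of_injective ψ.injective, D.card_H]) (by
      refine (Subgroup.map_mono D.stab_gen).trans ?_
      rw [MonoidHom.map_closure]
      refine Subgroup.closure_mono ?_
      rintro _ ⟨x, ⟨hx, hx3⟩, rfl⟩
      exact ⟨Subgroup.mem_map_of_mem _ hx, by rw [← map_pow, hx3, map_one]⟩)
  obtain ⟨t, ht⟩ := MulAction.exists_smul_eq G z D.a
  refine ⟨t * g, ?_⟩
  set χ := MulAut.conj (t * g) * φ with hχ
  have hχψ : ∀ x, χ x = t * ψ x * t⁻¹ := by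
    intro x
    simp only [hχ, hψ, MulAut.mul_apply, MulAut.conj_apply]
    group
  have hle : H.map χ.toMonoidHom = H := by
    refine Subgroup.eq_of_le_of_card_ge ?_
      (Subgroup.card_map_of_injective χ.injective).ge
    rintro _ ⟨x, hx, rfl⟩
    show χ x • D.a = D.a
    rw [hχψ, mul_smul, mul_smul, show t⁻¹ • D.a = z by rw [← ht, inv_smul_smul],
      show ψ x • z = z from hz _ (Subgroup.mem_map_of_mem _ hx), ht]
  intro x
  constructor
  · intro hx
    have hx' : χ x ∈ H := hx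
    rw [← hle] at hx'
    obtain ⟨y, hy, hyx⟩ := hx'
    rw [← χ.injective hyx]
    exact hy
  · intro hx
    have : χ x ∈ H.map χ.toMonoidHom := Subgroup.mem_map_of_mem _ hx
    rw [hle] at this
    exact this

/-- Every automorphism is induced by a permutation preserving an invariant adjacency. -/
theorem exists_perm [IsPretransitive G Ω] (R : Ω → Ω → Prop)
    (hR : ∀ (g : G) y z, R (g • y) (g • z) ↔ R y z)
    (hRa : ∀ z, R D.a z ↔ z ∈ orbit (stabilizer G D.a) D.b)
    (hother : ∀ z, (orbit (stabilizer G D.a) z).ncard = 112 → z ∈ orbit (stabilizer G D.a) D.b)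
    (φ : MulAut G) :
    ∃ ψ : Equiv.Perm Ω, (∀ (g : G) z, ψ (g • z) = φ g • ψ z) ∧ ∀ y z, R (ψ y) (ψ z) ↔ R y z := by
  obtain ⟨g0, hg0⟩ := D.exists_conj_stab φ
  set χ := MulAut.conj g0 * φ with hχ
  set H := stabilizer G D.a with hH
  choose s hs using fun y : Ω => exists_smul_eq G D.a y
  set σ : Ω → Ω := fun y => χ (s y) • D.a with hσ
  have hσg : ∀ g, σ (g • D.a) = χ g • D.a := by
    intro g
    have h : χ ((s (g • D.a))⁻¹ * g) • D.a = D.a :=
      (hg0 _).2 (by rw [mul_smul, inv_smul_eq_iff, hs])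
    rw [map_mul, map_inv, mul_smul, inv_smul_eq_iff] at h
    exact h.symm
  have hσeq : ∀ g y, σ (g • y) = χ g • σ y := by
    intro g y
    conv_lhs => rw [← hs y, ← mul_smul, hσg, map_mul, mul_smul]
  have hbij : Function.Bijective σ := by
    refine ⟨fun y z h => ?_, fun y => ⟨χ.symm (s y) • D.a,
      by rw [hσg, MulEquiv.apply_symm_apply, hs]⟩⟩
    rw [← hs y, ← hs z, hσg, hσg] at h
    rw [← hs y, ← hs z]
    have h1 : χ ((s z)⁻¹ * s y) • D.a = D.a := by
      rw [map_mul, map_inv, mul_smul, h, inv_smul_smul]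
    have h2 := (hg0 _).1 h1
    rwa [mul_smul, inv_smul_eq_iff] at h2
  have hσa : σ D.a = D.a := by
    have := hσg 1
    rwa [one_smul, map_one, one_smul] at this
  have himg : ∀ y, σ '' orbit H y = orbit H (σ y) := by
    intro y
    ext z
    constructor
    · rintro ⟨_, ⟨⟨t, ht⟩, rfl⟩, rfl⟩
      exact ⟨⟨χ t, (hg0 t).2 ht⟩, (hσeq t y).symm⟩
    · rintro ⟨⟨t, ht⟩, rfl⟩
      refine ⟨χ.symm t • y, ⟨⟨χ.symm t, (hg0 _).1 (by rw [MulEquiv.apply_symm_apply]; exact ht)⟩,
        rfl⟩, ?_⟩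
      show σ (χ.symm t • y) = t • σ y
      rw [hσeq, MulEquiv.apply_symm_apply]
  have hN : σ '' orbit H D.b = orbit H D.b := by
    rw [himg]
    refine orbit_eq_iff.2 (hother _ ?_)
    rw [← himg, Set.ncard_image_of_injective _ hbij.1, D.card_orb]
  have hRσ : ∀ y z, R (σ y) (σ z) ↔ R y z := by
    intro y z
    obtain ⟨g, rfl⟩ := exists_smul_eq G D.a y
    obtain ⟨w, rfl⟩ : ∃ w, g • w = z := ⟨g⁻¹ • z, smul_inv_smul g z⟩
    rw [hσeq, hσeq, hσa, hR, hR, hRa, hRa]
    constructor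
    · intro h
      rw [← hN] at h
      obtain ⟨v, hv, hvw⟩ := h
      rwa [← hbij.1 hvw]
    · intro h
      rw [← hN]
      exact Set.mem_image_of_mem σ h
  refine ⟨(Equiv.ofBijective σ hbij).trans (MulAction.toPerm g0⁻¹), fun g z => ?_, fun y z => ?_⟩
  · show g0⁻¹ • σ (g • z) = φ g • g0⁻¹ • σ z
    have e : g0⁻¹ * χ g = φ g * g0⁻¹ := by
      simp only [hχ, MulAut.mul_apply, MulAut.conj_apply]
      group
    rw [hσeq, ← mul_smul, e, mul_smul]
  · show R (g0⁻¹ • σ y) (g0⁻¹ • σ z) ↔ _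
    rw [hR, hRσ]

end EdgeData

end Cfsg.Agent.H32.OutMcL
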