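import Cfsg.Agent.H32.OutMcL.Perm
import Cfsg.Agent.H32.OutMcL.Abstract

/-!
The group fixing an adjacent pair, its elementary subgroup and a Sylow subgroup, certified on the
packed permutations.
-/

set_option autoImplicit false
set_option Elab.async false
set_option linter.style.haveILetI false

namespace Cfsg.Agent.H32.OutMcL

open Cfsg Cfsg.Agent.Golay Cfsg.Agent.H92.LeechOrbit MulAction
open scoped Pointwise

/-! ### Basic facts on the group -/

/-- The base point. -/
def ptA : Fin 275 := 255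

/-- Its chosen neighbour. -/
def ptB : Fin 275 := 0

/-- A point adjacent to both. -/
def ptC : Fin 275 := 6

lemma ptA_val : ptA.1 = 255 := rfl

theorem root_eq : Nat.beq mclCert.root 255 = true := by decide +kernel

lemma root_lt : mclCert.root < 275 := by
  rw [Nat.eq_of_beq_eq_true root_eq]; norm_num

lemma mclG_eq : (McG : Subgroup Co0) = stabilizer Co0 refU ⊓ stabilizer Co0 refV := by
  ext g
  constructor
  · intro hg
    exact ⟨hg refU ⟨_, List.mem_cons_self, rfl⟩,
      hg refV ⟨_, List.mem_cons_of_mem _ List.mem_cons_self, rfl⟩⟩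
  · rintro ⟨h1, h2⟩ v ⟨r, hr, hv⟩
    have hr' : r = (u48Code, 24) ∨ r = (v32Code, 16) := by
      simpa [mclCert] using hr
    rcases hr' with rfl | rfl
    · rw [show v = refU from Subtype.ext hv]; exact h1
    · rw [show v = refV from Subtype.ext hv]; exact h2

theorem mclG_dot : (decide (dotInt (dec v32Code) (dec u48Code - dec v32Code) = -8)) = true := by
  decide +kernel

lemma isMcL_mclG : Cfsg.IsMcL ↥(McG : Subgroup Co0) := by
  have h : (McG : Subgroup Co0)
      = stabilizer Co0 refV ⊓ stabilizer Co0 (refU - refV) := by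
    rw [mclG_eq]
    ext g
    simp only [Subgroup.mem_inf, mem_stabilizer_iff]
    constructor
    · rintro ⟨h1, h2⟩
      exact ⟨h2, by rw [co0_smul_sub, h1, h2]⟩
    · rintro ⟨h2, h3⟩
      rw [co0_smul_sub, h2, sub_left_inj] at h3
      exact ⟨h3, h2⟩
  rw [h]
  exact isMcL_stabilizer ref_facts.2.1.2.1 ref_facts.2.2.1.2.1 (of_decide_eq_true mclG_dot)

lemma card_mclG : Nat.card ↥(McG : Subgroup Co0) = 898128000 := isMcL_mclG.2

instance : Finite ↥(McG : Subgroup Co0) :=
  (Nat.card_pos_iff.1 (by rw [card_mclG]; norm_num)).2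

instance pretransMcG : IsPretransitive McG (Fin 275) := ⟨fun i j => by
  obtain ⟨g, hg, he⟩ := target_transitive mclCert_ok mclCert_cover
    (mem_target_iff.2 ⟨i, rfl⟩) (mem_target_iff.2 ⟨j, rfl⟩)
  exact ⟨⟨g, hg⟩, vec_injective ((vec_smul _ i).trans he)⟩⟩

instance faithfulMcG : FaithfulSMul McG (Fin 275) := by
  haveI : IsSimpleGroup ↥(McG : Subgroup Co0) := isMcL_mclG.1
  rcases (MonoidHom.normal_ker (MulAction.toPermHom McG (Fin 275))).eq_bot_or_eq_top with h | h
  · exact ⟨fun {g k} e => (MonoidHom.ker_eq_bot_iff _).1 h (Equiv.ext e)⟩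
  · exfalso
    obtain ⟨g, hg⟩ := exists_smul_eq McG (0 : Fin 275) 1
    have h1 : MulAction.toPermHom McG (Fin 275) g = 1 := MonoidHom.mem_ker.1 (h ▸ Subgroup.mem_top g)
    exact absurd ((Equiv.congr_fun h1 0).symm.trans hg) (by decide)

/-! ### Suborbits -/

attribute [local irreducible] vec

lemma near_refs : mclNearCert.refs = mclCert.refs ++ [(mclCert.code mclCert.root, 8)] := by
  have e : Nat.beq (mclCert.code mclCert.root) 62062060636173731114942777480 = true := by
    decide +kernel
  rw [Nat.eq_of_beq_eq_true e]; rfl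

lemma far_refs : mclFarCert.refs = mclCert.refs ++ [(mclCert.code mclCert.root, 16)] := by
  have e : Nat.beq (mclCert.code mclCert.root) 62062060636173731114942777480 = true := by
    decide +kernel
  rw [Nat.eq_of_beq_eq_true e]; rfl

lemma sub_orbit {C : Cert} {d : ℤ} (hok : certOK C = true) (hcov : Cover C)
    (hrefs : C.refs = mclCert.refs ++ [(mclCert.code mclCert.root, d)]) {y : Fin 275}
    (hy : dotInt (vec ptA).1 (vec y).1 = d) :
    orbit (stabilizer McG ptA) y = {z | dotInt (vec ptA).1 (vec z).1 = d} ∧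
      ({z | dotInt (vec ptA).1 (vec z).1 = d} : Set (Fin 275)).ncard = C.N := by
  obtain ⟨c, hc⟩ : ∃ c, c = mclCert.code mclCert.root := ⟨_, rfl⟩
  rw [← hc] at hrefs
  have hA : (vec ptA).1 = dec c := by
    rw [hc, vec_dec, ptA_val, Nat.eq_of_beq_eq_true root_eq]
  have htgt : ∀ z, vec z ∈ target C ↔ dotInt (vec ptA).1 (vec z).1 = d := by
    intro z
    obtain ⟨hn, hd⟩ : vec z ∈ target mclCert := mem_target_iff.2 ⟨z, rfl⟩
    constructor
    · intro h
      rw [hA]
      exact h.2 (c, d) (hrefs.symm ▸ List.mem_append_right _ (List.mem_singleton.2 rfl))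
    · intro h
      refine ⟨hn, fun r hr => ?_⟩
      rw [hrefs, List.mem_append, List.mem_singleton] at hr
      rcases hr with hr | rfl
      · exact hd r hr
      · rw [← hA]; exact h
  constructor
  · ext z
    constructor
    · intro hz
      obtain ⟨⟨g, hg⟩, hgz⟩ := MulAction.mem_orbit_iff.1 hz
      have hgz' : g • y = z := hgz
      have hga : g • ptA = ptA := MulAction.mem_stabilizer_iff.1 hg
      have h1 : (vec ptA).1 = (g.1 • vec ptA).1 := by rw [← vec_smul g ptA, hga]
      rw [Set.mem_setOf_eq, ← hgz', h1, vec_smul g y, co0_dot g.1 (vec ptA) (vec y)]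
      exact hy
    · intro hz
      obtain ⟨g, hg, he⟩ := target_transitive hok hcov ((htgt y).2 hy) ((htgt z).2 hz)
      have hmem : g ∈ McG := fun v hv => by
        obtain ⟨r, hr, e⟩ := hv
        exact hg v ⟨r, by rw [hrefs]; exact List.mem_append_left _ hr, e⟩
      have hfix : (⟨g, hmem⟩ : McG) • ptA = ptA := vec_injective
        ((vec_smul _ _).trans (hg (vec ptA) ⟨(c, d),
          hrefs.symm ▸ List.mem_append_right _ (List.mem_singleton.2 rfl), hA⟩))
      exact ⟨⟨⟨g, hmem⟩, hfix⟩, vec_injective ((vec_smul _ _).trans he)⟩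
  · rw [← ncard_target hok hcov, ← Set.ncard_image_of_injective _ vec_injective]
    congr 1
    ext v
    constructor
    · rintro ⟨z, hz, rfl⟩; exact (htgt z).2 hz
    · intro hv
      have hv' : v ∈ target mclCert :=
        ⟨hv.1, fun r hr => hv.2 r (by rw [hrefs]; exact List.mem_append_left _ hr)⟩
      obtain ⟨z, rfl⟩ := mem_target_iff.1 hv'
      exact ⟨z, (htgt z).1 hv, rfl⟩

theorem near_far_N : (Nat.beq mclNearCert.N 112 && Nat.beq mclFarCert.N 162) = true := by
  decide +kernel

theorem dot_cases_ok : (allBelow 275 fun i => Nat.beq i 255 ||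
    dotTest (mclCert.code 255) (mclCert.code i) 8 ||
      dotTest (mclCert.code 255) (mclCert.code i) 16) = true := by decide +kernel

lemma dot_cases (z : Fin 275) : z = ptA ∨ Adj ptA z ∨ dotInt (vec ptA).1 (vec z).1 = 16 := by
  have h := allBelow_spec dot_cases_ok z.1 z.2
  simp only [Bool.or_eq_true, dotTest_eq, decide_eq_true_eq] at h
  rw [Adj, vec_dec, vec_dec, ptA_val]
  rcases h with (h | h) | h
  · exact Or.inl (Fin.ext (Nat.eq_of_beq_eq_true h))
  · exact Or.inr (Or.inl h)
  · exact Or.inr (Or.inr h)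

theorem adj_ptB_ok : bit (adjRow 255) 0 = true := by decide +kernel

lemma adj_ptB : Adj ptA ptB := (adj_row ptA ptB).1 adj_ptB_ok

lemma orbit_ptB : orbit (stabilizer McG ptA) ptB = {z | Adj ptA z} :=
  (sub_orbit mclNearCert_ok mclNearCert_cover near_refs adj_ptB).1

lemma card_orbit_ptB : (orbit (stabilizer McG ptA) ptB).ncard = 112 := by
  rw [(sub_orbit mclNearCert_ok mclNearCert_cover near_refs adj_ptB).1,
    (sub_orbit mclNearCert_ok mclNearCert_cover near_refs adj_ptB).2]
  have h := near_far_N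
  rw [Bool.and_eq_true] at h
  exact Nat.eq_of_beq_eq_true h.1

lemma other_orbit (z : Fin 275) (hz : (orbit (stabilizer McG ptA) z).ncard = 112) :
    z ∈ orbit (stabilizer McG ptA) ptB := by
  rcases dot_cases z with rfl | h | h
  · exfalso
    have h1 : orbit (stabilizer McG ptA) ptA = {ptA} := by
      ext x
      constructor
      · rintro ⟨g, rfl⟩; exact g.2
      · rintro rfl; exact mem_orbit_self _
    rw [h1, Set.ncard_singleton] at hz
    exact absurd hz (by norm_num)
  · rw [orbit_ptB]; exact h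
  · exfalso
    obtain ⟨h1, h2⟩ := sub_orbit mclFarCert_ok mclFarCert_cover far_refs h
    have h3 := near_far_N
    rw [Bool.and_eq_true] at h3
    rw [h1, h2, Nat.eq_of_beq_eq_true h3.2] at hz
    exact absurd hz (by norm_num)

/-! ### Equalities between named elements -/

/-- A product of two values is a third. -/
def mulEq (R P Q : ℕ) : Bool := mulOK (valOf R) (valOf P) (valOf Q)

/-- Two products of values agree. -/
def pairEq (P Q R S : ℕ) : Bool :=
  allBelow 275 fun i => decide (at' (valOf Q) i < 275) && decide (at' (valOf S) i < 275) &&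
    Nat.beq (at' (valOf P) (at' (valOf Q) i)) (at' (valOf R) (at' (valOf S) i))

/-- The length of the program. -/
def progLen : ℕ := 299

theorem prog_len : Nat.beq prog.length progLen = true := by decide +kernel

lemma rep_lt {n : ℕ} (hn : n < progLen) : Rep (el n) (valOf n) :=
  rep_el (hn.trans_eq (Nat.eq_of_beq_eq_true prog_len).symm)

lemma el_mul {R P Q : ℕ} (hR : R < progLen) (hP : P < progLen) (hQ : Q < progLen)
    (h : mulEq R P Q = true) : el P * el Q = el R := by
  refine eq_of_smul_eq_smul fun i : Fin 275 => Fin.ext ?_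
  rw [rep_mul h (rep_lt hP) (rep_lt hQ) i, rep_lt hR i]

lemma el_pair {P Q R S : ℕ} (hP : P < progLen) (hQ : Q < progLen) (hR : R < progLen)
    (hS : S < progLen) (h : pairEq P Q R S = true) : el P * el Q = el R * el S := by
  refine eq_of_smul_eq_smul fun i : Fin 275 => Fin.ext ?_
  have hi := allBelow_spec h i.1 i.2
  simp only [Bool.and_eq_true, decide_eq_true_eq] at hi
  rw [mul_smul, mul_smul, rep_lt hP, rep_lt hR, rep_lt hQ, rep_lt hS]
  exact Nat.eq_of_beq_eq_true hi.2

/-- A value is the identity. -/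
def idEq (R : ℕ) : Bool := allBelow 275 fun i => Nat.beq (at' (valOf R) i) i

lemma el_one {R : ℕ} (hR : R < progLen) (h : idEq R = true) : el R = 1 := by
  refine eq_of_smul_eq_smul fun i : Fin 275 => Fin.ext ?_
  rw [one_smul, rep_lt hR i]
  exact Nat.eq_of_beq_eq_true (allBelow_spec h i.1 i.2)

/-- A value fixes a point. -/
def fixes (R p : ℕ) : Bool := Nat.beq (at' (valOf R) p) p

lemma el_fix {R : ℕ} (hR : R < progLen) {p : Fin 275} (h : fixes R p.1 = true) : el R • p = p :=
  Fin.ext ((rep_lt hR p).trans (Nat.eq_of_beq_eq_true h))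

/-- A finite set closed under left multiplication by generators contains their closure. -/
lemma closure_subset {G : Type*} [Group G] [Finite G] {S T : Set G} (h1 : (1 : G) ∈ T)
    (hmul : ∀ g ∈ S, ∀ t ∈ T, g * t ∈ T) : (Subgroup.closure S : Set G) ⊆ T := by
  intro x hx
  have hle : Subgroup.closure S ≤ stabilizer G T := by
    refine (Subgroup.closure_le _).2 fun g hg => ?_
    rw [SetLike.mem_coe, mem_stabilizer_iff]
    refine Set.eq_of_subset_of_ncard_le ?_ (Set.ncard_smul_set g T).ge (Set.toFinite _)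
    rintro _ ⟨t, ht, rfl⟩
    exact hmul g hg t ht
  have h := Set.smul_mem_smul_set (a := x) h1
  rw [show x • T = T from hle hx, smul_eq_mul, mul_one] at h
  exact h

/-! ### The elementary subgroup and the Sylow subgroup -/

/-- Index of an element of the elementary subgroup. -/
def aIx (v : ℕ) : ℕ := listA.getD v 0

/-- Index of a coset representative. -/
def qIx (j : ℕ) : ℕ := listQ.getD j 0

/-- Position of a generator of the elementary subgroup. -/
def aGen (k : ℕ) : ℕ := [1, 3, 9, 27].getD k 0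

/-- Conjugation by a coset representative, on indices. -/
def tabQ (j v : ℕ) : ℕ :=
  let px : ℕ → ℕ := fun w => tabX.getD w 0
  let py : ℕ → ℕ := fun w => tabY.getD w 0
  let w := bif Nat.beq (j % 3) 0 then v else bif Nat.beq (j % 3) 1 then px v else px (px v)
  bif Nat.beq (j / 3) 0 then w else bif Nat.beq (j / 3) 1 then py w else py (py w)

/-- Addition of a unit vector on indices. -/
def addGen (v k : ℕ) : ℕ :=
  bif Nat.beq (v / aGen k % 3) 2 then v - 2 * aGen k else v + aGen k

/-- All checks on the elementary subgroup. -/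
def checkA : Bool :=
  (allBelow 81 fun v => decide (aIx v < progLen)) &&
  idEq (aIx 0) &&
  (allBelow 81 fun v => allBelow 4 fun k => decide (addGen v k < 81) &&
    mulEq (aIx (addGen v k)) (aIx (aGen k)) (aIx v)) &&
  (allBelow 81 fun v => allBelow 81 fun w => Nat.beq v w ||
    !Nat.beq (at' (valOf (aIx v)) 1) (at' (valOf (aIx w)) 1)) &&
  (allBelow 4 fun k => decide (aGen k < 81) && allBelow 4 fun l =>
    pairEq (aIx (aGen k)) (aIx (aGen l)) (aIx (aGen l)) (aIx (aGen k))) &&
  (allBelow 4 fun k => mulEq (aIx 0) (aIx (aGen k)) (aIx (addGen (aGen k) k)))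

theorem checkA_ok : checkA = true := by decide +kernel

/-- All checks on the Sylow subgroup. -/
def checkP : Bool :=
  (allBelow 9 fun j => decide (qIx j < progLen)) &&
  idEq (qIx 0) &&
  (allBelow 9 fun j => allBelow 81 fun v => decide (tabQ j v < 81) &&
    pairEq (qIx j) (aIx v) (aIx (tabQ j v)) (qIx j)) &&
  (allBelow 9 fun j => decide (tabXQ.getD j 0 / 81 < 9) &&
    pairEq (qIx 1) (qIx j) (aIx (tabXQ.getD j 0 % 81)) (qIx (tabXQ.getD j 0 / 81))) &&
  (allBelow 9 fun j => decide (tabYQ.getD j 0 / 81 < 9) &&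
    pairEq (qIx 3) (qIx j) (aIx (tabYQ.getD j 0 % 81)) (qIx (tabYQ.getD j 0 / 81))) &&
  (allBelow 9 fun j => allBelow 9 fun k => Nat.beq j k ||
    !allBelow 81 fun v => Nat.beq (tabQ j v) (tabQ k v)) &&
  (allBelow 9 fun j => Nat.beq j 0 ||
    Nat.ble ((List.range 81).filter fun v => Nat.beq (tabQ j v) v).length 9) &&
  Nat.ble ((List.range 81).filter fun v => Nat.beq (tabQ 1 v) v && Nat.beq (tabQ 3 v) v).length 3

theorem checkP_ok : checkP = true := by decide +kernel

/-- An element of the elementary subgroup. -/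
noncomputable def av (v : Fin 81) : McG := el (aIx v.1)

/-- A coset representative. -/
noncomputable def qv (j : Fin 9) : McG := el (qIx j.1)

lemma aIx_lt (v : Fin 81) : aIx v.1 < progLen := by
  have h := checkA_ok
  simp only [checkA, Bool.and_eq_true] at h
  exact of_decide_eq_true (allBelow_spec h.1.1.1.1.1 v.1 v.2)

lemma qIx_lt (j : Fin 9) : qIx j.1 < progLen := by
  have h := checkP_ok
  simp only [checkP, Bool.and_eq_true] at h
  exact of_decide_eq_true (allBelow_spec h.1.1.1.1.1.1.1 j.1 j.2)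

lemma av_zero : av 0 = 1 := by
  have h := checkA_ok
  simp only [checkA, Bool.and_eq_true] at h
  exact el_one (aIx_lt 0) h.1.1.1.1.2

lemma qv_zero : qv 0 = 1 := by
  have h := checkP_ok
  simp only [checkP, Bool.and_eq_true] at h
  exact el_one (qIx_lt 0) h.1.1.1.1.1.1.2

/-- The generators of the elementary subgroup. -/
def agenFin (k : Fin 4) : Fin 81 :=
  ⟨aGen k.1, by fin_cases k <;> decide⟩

lemma av_add (v : Fin 81) (k : Fin 4) :
    ∃ w : Fin 81, w.1 = addGen v.1 k.1 ∧ av (agenFin k) * av v = av w := by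
  have h := checkA_ok
  simp only [checkA, Bool.and_eq_true] at h
  have h1 := allBelow_spec (allBelow_spec h.1.1.1.2 v.1 v.2) k.1 k.2
  rw [Bool.and_eq_true, decide_eq_true_eq] at h1
  exact ⟨⟨_, h1.1⟩, rfl, el_mul (aIx_lt ⟨_, h1.1⟩) (aIx_lt (agenFin k)) (aIx_lt v) h1.2⟩

lemma av_injective : Function.Injective av := by
  intro v w h
  have hc := checkA_ok
  simp only [checkA, Bool.and_eq_true] at hc
  have h1 := allBelow_spec (allBelow_spec hc.1.1.2 v.1 v.2) w.1 w.2
  simp only [Bool.or_eq_true, Bool.not_eq_true'] at h1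
  rcases h1 with h1 | h1
  · exact Fin.ext (Nat.eq_of_beq_eq_true h1)
  · have := congrArg (fun g : McG => (g • (1 : Fin 275)).1) h
    simp only [av, rep_lt (aIx_lt v) 1, rep_lt (aIx_lt w) 1] at this
    rw [show at' (valOf (aIx v.1)) 1 = at' (valOf (aIx w.1)) 1 from this] at h1
    simp at h1

/-- The elementary subgroup. -/
noncomputable def subA : Subgroup McG := Subgroup.closure (Set.range fun k => av (agenFin k))

lemma gens_comm (k l : Fin 4) : Commute (av (agenFin k)) (av (agenFin l)) := by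
  have h := checkA_ok
  simp only [checkA, Bool.and_eq_true] at h
  have h1 := allBelow_spec h.1.2 k.1 k.2
  rw [Bool.and_eq_true] at h1
  exact el_pair (aIx_lt (agenFin k)) (aIx_lt (agenFin l)) (aIx_lt (agenFin l))
    (aIx_lt (agenFin k)) (allBelow_spec h1.2 l.1 l.2)

lemma subA_comm {x y : McG} (hx : x ∈ subA) (hy : y ∈ subA) : x * y = y * x := by
  have h1 : subA ≤ Subgroup.centralizer (Set.range fun k => av (agenFin k)) := by
    refine (Subgroup.closure_le _).2 ?_
    rintro _ ⟨k, rfl⟩ _ ⟨l, rfl⟩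
    exact (gens_comm l k).eq
  have h2 : subA ≤ Subgroup.centralizer (subA : Set McG) := by
    refine (Subgroup.closure_le _).2 fun g hg z hz => ?_
    exact (h1 hz g hg).symm
  exact (h2 hx y hy).symm

lemma subA_exp {x : McG} (hx : x ∈ subA) : x ^ 3 = 1 := by
  refine Subgroup.closure_induction (p := fun x _ => x ^ 3 = 1) ?_ (one_pow 3) ?_ ?_ hx
  · rintro _ ⟨k, rfl⟩
    have h := checkA_ok
    simp only [checkA, Bool.and_eq_true] at h
    obtain ⟨w, hw, e⟩ := av_add (agenFin k) k
    have h1 := el_mul (aIx_lt 0) (aIx_lt (agenFin k)) (aIx_lt w)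
      (by rw [hw]; exact allBelow_spec h.2 k.1 k.2)
    rw [pow_succ', pow_two]
    rw [show el (aIx (agenFin k).1) * el (aIx w.1) = av (agenFin k) * av w from rfl, ← e] at h1
    exact h1.trans av_zero
  · intro y z hy hz h1 h2
    rw [(show Commute y z from subA_comm hy hz).mul_pow, h1, h2, one_mul]
  · intro y _ h1
    rw [inv_pow, h1, inv_one]

lemma subA_coe : (subA : Set McG) = Set.range av := by
  refine Set.eq_of_subset_of_subset (closure_subset ⟨0, av_zero⟩ ?_) ?_
  · rintro _ ⟨k, rfl⟩ _ ⟨v, rfl⟩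
    obtain ⟨w, -, e⟩ := av_add v k
    exact ⟨w, e.symm⟩
  · rintro _ ⟨v, rfl⟩
    -- reach every index by adding unit vectors
    suffices h : ∀ n (v : Fin 81), v.1 = n → av v ∈ subA from h _ v rfl
    intro n
    induction n using Nat.strong_induction_on with
    | _ n ih =>
      intro v hv
      rcases Nat.eq_zero_or_pos n with rfl | hn
      · rw [show v = 0 from Fin.ext hv, av_zero]; exact one_mem _
      obtain ⟨k, u, hk, hu⟩ : ∃ (k : Fin 4) (u : Fin 81), u.1 < v.1 ∧ addGen u.1 k.1 = v.1 := by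
        have key : ∀ v : Fin 81, v.1 = 0 ∨
            ∃ (k : Fin 4) (u : Fin 81), u.1 < v.1 ∧ addGen u.1 k.1 = v.1 := by decide +kernel
        exact (key v).resolve_left (by omega)
      obtain ⟨w, hw, e⟩ := av_add u k
      rw [show v = w from Fin.ext (hu.symm.trans hw.symm), ← e]
      exact mul_mem (Subgroup.subset_closure ⟨k, rfl⟩) (ih u.1 (hv ▸ hk) u rfl)

lemma av_mem (v : Fin 81) : av v ∈ subA := subA_coe.ge ⟨v, rfl⟩

lemma card_subA : Nat.card subA = 81 := by
  rw [← SetLike.coe_sort_coe, Nat.card_coe_set_eq, subA_coe, ← Set.image_univ,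
    Set.ncard_image_of_injective _ av_injective, Set.ncard_univ, Nat.card_fin]

/-- Conjugation on indices. -/
lemma qv_conj (j : Fin 9) (v : Fin 81) :
    ∃ w : Fin 81, w.1 = tabQ j.1 v.1 ∧ qv j * av v = av w * qv j := by
  have h := checkP_ok
  simp only [checkP, Bool.and_eq_true] at h
  have h1 := allBelow_spec (allBelow_spec h.1.1.1.1.1.2 j.1 j.2) v.1 v.2
  rw [Bool.and_eq_true, decide_eq_true_eq] at h1
  exact ⟨⟨_, h1.1⟩, rfl, el_pair (qIx_lt j) (aIx_lt v) (aIx_lt ⟨_, h1.1⟩) (qIx_lt j) h1.2⟩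

/-- The product map. -/
noncomputable def pv (p : Fin 81 × Fin 9) : McG := av p.1 * qv p.2

lemma pv_injective : Function.Injective pv := by
  rintro ⟨v, j⟩ ⟨w, k⟩ h
  simp only [pv] at h
  have hjk : j = k := by
    have hc := checkP_ok
    simp only [checkP, Bool.and_eq_true] at hc
    have h1 := allBelow_spec (allBelow_spec hc.1.1.2 j.1 j.2) k.1 k.2
    simp only [Bool.or_eq_true, Bool.not_eq_true'] at h1
    rcases h1 with h1 | h1
    · exact Fin.ext (Nat.eq_of_beq_eq_true h1)
    · exfalso
      have hall : (allBelow 81 fun t => Nat.beq (tabQ j.1 t) (tabQ k.1 t)) = true := by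
        rw [allBelow, List.all_eq_true]
        intro q hq
        rw [List.all_eq_true]
        intro r hr
        by_cases ht : 64 * q + r < 81
        · obtain ⟨s, hs, es⟩ := qv_conj j ⟨_, ht⟩
          obtain ⟨s', hs', es'⟩ := qv_conj k ⟨_, ht⟩
          have hcomm : ∀ u : Fin 81, av u * av ⟨_, s.2⟩ = av ⟨_, s.2⟩ * av u := fun u =>
            subA_comm (av_mem _) (av_mem _)
          have hjq : qv j = (av v)⁻¹ * av w * qv k := by
            rw [mul_assoc, ← h, inv_mul_cancel_left]
          have : av s * qv j = av s' * qv j := by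
            rw [← es]
            conv_lhs => rw [hjq, mul_assoc, es', ← mul_assoc,
              subA_comm (mul_mem (inv_mem (av_mem v)) (av_mem w)) (av_mem s'), mul_assoc, ← hjq]
          have hss := av_injective (mul_right_cancel this)
          rw [show Nat.beq (tabQ j.1 (64 * q + r)) (tabQ k.1 (64 * q + r)) = true by
            rw [← hs, ← hs', hss]; simp]
          simp
        · simp [ht]
      rw [hall] at h1
      exact Bool.noConfusion h1
  subst hjk
  exact Prod.ext (av_injective (mul_right_cancel h)) rfl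

/-- The Sylow subgroup. -/
noncomputable def subP : Subgroup McG :=
  Subgroup.closure (Set.range (fun k => av (agenFin k)) ∪ {qv 1, qv 3})

lemma subP_coe : (subP : Set McG) = Set.range pv := by
  have hstep : ∀ (u : Fin 9), (∀ j : Fin 9, ∃ v k, qv u * qv j = av v * qv k) →
      ∀ t ∈ Set.range pv, qv u * t ∈ Set.range pv := by
    rintro u hu _ ⟨⟨v, j⟩, rfl⟩
    obtain ⟨w, -, e⟩ := qv_conj u v
    obtain ⟨s, k, e'⟩ := hu j
    have hmem : av w * av s ∈ Set.range av := subA_coe ▸ mul_mem (av_mem w) (av_mem s)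
    obtain ⟨r, hr⟩ := hmem
    refine ⟨⟨r, k⟩, ?_⟩
    simp only [pv]
    rw [hr, ← mul_assoc (qv u), e, mul_assoc (av w) (qv u), e', ← mul_assoc]
  refine Set.eq_of_subset_of_subset (closure_subset ⟨(0, 0), ?_⟩ ?_) ?_
  · simp only [pv, av_zero, qv_zero, one_mul]
  · rintro g (⟨k, rfl⟩ | rfl | rfl)
    · rintro _ ⟨⟨v, j⟩, rfl⟩
      obtain ⟨w, -, e⟩ := av_add v k
      exact ⟨⟨w, j⟩, by simp only [pv]; rw [← e, mul_assoc]⟩
    · refine hstep 1 fun j => ?_
      have h := checkP_ok
      simp only [checkP, Bool.and_eq_true] at h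
      have h1 := allBelow_spec h.1.1.1.1.2 j.1 j.2
      rw [Bool.and_eq_true, decide_eq_true_eq] at h1
      exact ⟨⟨_, Nat.mod_lt _ (by norm_num)⟩, ⟨_, h1.1⟩, el_pair (qIx_lt 1) (qIx_lt j)
        (aIx_lt ⟨_, Nat.mod_lt _ (by norm_num)⟩) (qIx_lt ⟨_, h1.1⟩) h1.2⟩
    · refine hstep 3 fun j => ?_
      have h := checkP_ok
      simp only [checkP, Bool.and_eq_true] at h
      have h1 := allBelow_spec h.1.1.1.2 j.1 j.2
      rw [Bool.and_eq_true, decide_eq_true_eq] at h1
      exact ⟨⟨_, Nat.mod_lt _ (by norm_num)⟩, ⟨_, h1.1⟩, el_pair (qIx_lt 3) (qIx_lt j)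
        (aIx_lt ⟨_, Nat.mod_lt _ (by norm_num)⟩) (qIx_lt ⟨_, h1.1⟩) h1.2⟩
  · rintro _ ⟨⟨v, j⟩, rfl⟩
    have hA : subA ≤ subP := Subgroup.closure_mono Set.subset_union_left
    refine mul_mem (hA (av_mem v)) ?_
    have hx : qv 1 ∈ subP := Subgroup.subset_closure (Or.inr (Or.inl rfl))
    have hy : qv 3 ∈ subP := Subgroup.subset_closure (Or.inr (Or.inr rfl))
    have hstepX : ∀ i : Fin 9, qv i ∈ subP → ∀ k : Fin 9,
        k.1 = tabXQ.getD i.1 0 / 81 → qv k ∈ subP := by
      intro i hi k hk
      have h := checkP_ok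
      simp only [checkP, Bool.and_eq_true] at h
      have h1 := allBelow_spec h.1.1.1.1.2 i.1 i.2
      rw [Bool.and_eq_true, decide_eq_true_eq] at h1
      have e := el_pair (qIx_lt 1) (qIx_lt i) (aIx_lt ⟨_, Nat.mod_lt _ (by norm_num)⟩)
        (qIx_lt ⟨_, h1.1⟩) h1.2
      rw [show k = ⟨_, h1.1⟩ from Fin.ext hk]
      exact (Subgroup.mul_mem_cancel_left _ (hA (av_mem ⟨_, Nat.mod_lt _ (by norm_num)⟩))).1
        (e ▸ mul_mem hx hi)
    have hstepY : ∀ i : Fin 9, qv i ∈ subP → ∀ k : Fin 9,
        k.1 = tabYQ.getD i.1 0 / 81 → qv k ∈ subP := by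
      intro i hi k hk
      have h := checkP_ok
      simp only [checkP, Bool.and_eq_true] at h
      have h1 := allBelow_spec h.1.1.1.2 i.1 i.2
      rw [Bool.and_eq_true, decide_eq_true_eq] at h1
      have e := el_pair (qIx_lt 3) (qIx_lt i) (aIx_lt ⟨_, Nat.mod_lt _ (by norm_num)⟩)
        (qIx_lt ⟨_, h1.1⟩) h1.2
      rw [show k = ⟨_, h1.1⟩ from Fin.ext hk]
      exact (Subgroup.mul_mem_cancel_left _ (hA (av_mem ⟨_, Nat.mod_lt _ (by norm_num)⟩))).1
        (e ▸ mul_mem hy hi)
    have h0 : qv 0 ∈ subP := qv_zero ▸ one_mem subP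
    have h2 : qv 2 ∈ subP := hstepX 1 hx 2 (by decide +kernel)
    have h4 : qv 4 ∈ subP := hstepY 1 hx 4 (by decide +kernel)
    have h5 : qv 5 ∈ subP := hstepY 2 h2 5 (by decide +kernel)
    have h6 : qv 6 ∈ subP := hstepY 3 hy 6 (by decide +kernel)
    have h7 : qv 7 ∈ subP := hstepY 4 h4 7 (by decide +kernel)
    have h8 : qv 8 ∈ subP := hstepY 5 h5 8 (by decide +kernel)
    fin_cases j <;> assumption

lemma card_subP : Nat.card subP = 729 := by
  rw [← SetLike.coe_sort_coe, Nat.card_coe_set_eq, subP_coe, ← Set.image_univ,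
    Set.ncard_image_of_injective _ pv_injective, Set.ncard_univ, Nat.card_prod, Nat.card_fin,
    Nat.card_fin]

lemma filter_count {p : Fin 81 → Prop} [DecidablePred p] {q : ℕ → Bool}
    (h : ∀ v, p v → q v.1 = true) :
    (Finset.univ.filter p).card ≤ ((List.range 81).filter q).length := by
  rw [← List.toFinset_card_of_nodup (List.Nodup.filter q List.nodup_range)]
  refine Finset.card_le_card_of_injOn Fin.val (fun v hv => ?_) fun v _ w _ e => Fin.ext e
  simp only [Finset.coe_filter, Set.mem_setOf_eq, Finset.mem_univ, true_and] at hv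
  simp [h v hv, v.2]

/-- The elementary subgroup is the only one of its kind in the Sylow subgroup. -/
lemma subA_unique (B : Subgroup McG) (hB : B ≤ subP) (hcard : Nat.card B = 81)
    (hcomm : ∀ x ∈ B, ∀ y ∈ B, x * y = y * x) : B = subA := by
  classical
  set C : Finset (Fin 81) := Finset.univ.filter fun v => av v ∈ B with hC
  set Qs : Finset (Fin 9) := Finset.univ.filter fun j => ∃ v, pv (v, j) ∈ B with hQ
  have hfix : ∀ v ∈ C, ∀ j ∈ Qs, tabQ j.1 v.1 = v.1 := by
    intro v hv j hj
    obtain ⟨w, hw⟩ := (Finset.mem_filter.1 hj).2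
    have h := hcomm _ (Finset.mem_filter.1 hv).2 _ hw
    obtain ⟨t, ht, e⟩ := qv_conj j v
    have : av v * (av w * qv j) = av t * (av w * qv j) := by
      rw [show av v * (av w * qv j) = (av w * qv j) * av v from h, mul_assoc, e, ← mul_assoc,
        ← mul_assoc, subA_comm (av_mem w) (av_mem t)]
    rw [← ht, ← av_injective (mul_right_cancel this)]
  have hle : Nat.card B ≤ C.card * Qs.card := by
    have hchoice : ∀ b : B, ∃ p : Fin 81 × Fin 9, pv p = b.1 := fun b =>
      (subP_coe ▸ hB b.2 : b.1 ∈ Set.range pv)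
    choose f hf using hchoice
    haveI : Fintype B := Fintype.ofFinite _
    rw [Nat.card_eq_fintype_card, ← Finset.card_univ]
    refine Finset.card_le_mul_card_image_of_maps_to (f := fun b : B => (f b).2) (t := Qs)
      (fun b _ => Finset.mem_filter.2 ⟨Finset.mem_univ _, (f b).1, by
        show pv (f b) ∈ B
        rw [hf b]; exact b.2⟩) _ ?_
    intro j _
    by_cases hne : (Finset.univ.filter fun b : B => (f b).2 = j).Nonempty
    swap
    · rw [Finset.not_nonempty_iff_eq_empty.1 hne, Finset.card_empty]; exact Nat.zero_le _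
    obtain ⟨b0, hb0⟩ := hne
    have hb0' := (Finset.mem_filter.1 hb0).2
    have hdiff : ∀ b : B, (f b).2 = j → b.1 * b0.1⁻¹ = av (f b).1 * (av (f b0).1)⁻¹ := by
      intro b hb
      rw [← hf b, ← hf b0]
      simp only [pv, hb, hb0']
      group
    have hex : ∀ b : B, (f b).2 = j → ∃ v ∈ C, av v = b.1 * b0.1⁻¹ := by
      intro b hb
      have h1 : b.1 * b0.1⁻¹ ∈ subA := by
        rw [hdiff b hb]; exact mul_mem (av_mem _) (inv_mem (av_mem _))
      obtain ⟨v, hv⟩ : b.1 * b0.1⁻¹ ∈ Set.range av := subA_coe ▸ h1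
      exact ⟨v, Finset.mem_filter.2 ⟨Finset.mem_univ _, hv ▸ mul_mem b.2 (inv_mem b0.2)⟩, hv⟩
    choose g hgC hg using hex
    refine Finset.card_le_card_of_injOn
      (fun b => if hb : (f b).2 = j then g b hb else 0) (fun b hb => ?_) ?_
    · have hb' : (f b).2 = j := (Finset.mem_filter.1 hb).2
      simp only [dif_pos hb']
      exact hgC b hb'
    · intro b hb b' hb' e
      have h1 : (f b).2 = j := (Finset.mem_filter.1 hb).2
      have h2 : (f b').2 = j := (Finset.mem_filter.1 hb').2
      simp only [dif_pos h1, dif_pos h2] at e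
      have h3 := congrArg av e
      rw [hg b h1, hg b' h2] at h3
      exact Subtype.ext (mul_right_cancel h3)
  have hCle : C.card ≤ 81 := (Finset.card_le_univ _).trans (by simp)
  by_cases hQ0 : ∀ j ∈ Qs, j = 0
  · refine Subgroup.eq_of_le_of_card_ge (fun x hx => ?_) (by rw [card_subA, hcard])
    obtain ⟨⟨v, j⟩, rfl⟩ : x ∈ Set.range pv := subP_coe ▸ hB hx
    rw [show j = 0 from hQ0 j (Finset.mem_filter.2 ⟨Finset.mem_univ _, v, hx⟩), pv, qv_zero,
      mul_one]
    exact av_mem v
  exfalso
  push Not at hQ0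
  obtain ⟨j, hj, hj0⟩ := hQ0
  have h := checkP_ok
  simp only [checkP, Bool.and_eq_true] at h
  have hC9 : C.card ≤ 9 := by
    have h1 := allBelow_spec h.1.2 j.1 j.2
    rw [Bool.or_eq_true] at h1
    have h2 := Nat.le_of_ble_eq_true (h1.resolve_left fun e =>
      hj0 (Fin.ext (Nat.eq_of_beq_eq_true e)))
    refine le_trans ?_ h2
    exact filter_count fun v hv => by
      rw [hfix v (Finset.mem_filter.2 ⟨Finset.mem_univ _, hv⟩) j hj]; simp
  have hQ9 : Qs.card ≤ 9 := (Finset.card_le_univ _).trans (by simp)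
  rw [hcard] at hle
  have hQall : Qs = Finset.univ := by
    refine Finset.eq_univ_of_card _ ?_
    rw [Fintype.card_fin]
    have h3 := Nat.mul_le_mul_right Qs.card hC9
    omega
  have hC3 : C.card ≤ 3 := by
    refine le_trans ?_ (Nat.le_of_ble_eq_true h.2)
    exact filter_count fun v hv => by
      have h1 := hfix v (Finset.mem_filter.2 ⟨Finset.mem_univ _, hv⟩) 1 (by simp [hQall])
      have h3 := hfix v (Finset.mem_filter.2 ⟨Finset.mem_univ _, hv⟩) 3 (by simp [hQall])
      simp only [Fin.val_one, show ((3 : Fin 9).1) = 3 from rfl] at h1 h3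
      rw [h1, h3]; simp
  have h3 := Nat.mul_le_mul hC3 hQ9
  omega

end Cfsg.Agent.H32.OutMcL
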