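import Cfsg.Agent.H32.OutMcL.Edge

/-!
The subgroup fixing an adjacent pair: generators of order three, its orbits, and the resulting data
for following the class of point stabilisers.
-/

set_option autoImplicit false
set_option Elab.async false
set_option linter.style.haveILetI false

namespace Cfsg.Agent.H32.OutMcL

open Cfsg Cfsg.Agent.H92.LeechOrbit MulAction
open scoped Pointwise

attribute [local irreducible] vec

/-- The subgroup fixing the two base points. -/
noncomputable def pairE : Subgroup McG := stabilizer McG ptA ⊓ stabilizer McG ptB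

lemma mem_pairE {g : McG} : g ∈ pairE ↔ g • ptA = ptA ∧ g • ptB = ptB := Iff.rfl

lemma card_stab (p : Fin 275) : Nat.card (stabilizer McG p) = 3265920 := by
  have h := Nat.card_congr (orbitProdStabilizerEquivGroup McG p)
  rw [Nat.card_prod, Nat.card_coe_set_eq, orbit_eq_univ, Set.ncard_univ, Nat.card_fin,
    card_mclG] at h
  omega

lemma card_pairE : Nat.card pairE = 29160 := by
  have h := Nat.card_congr (orbitProdStabilizerEquivGroup (stabilizer McG ptA) ptB)
  rw [Nat.card_prod, Nat.card_coe_set_eq, card_orbit_ptB, card_stab] at h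
  have e : Nat.card pairE = Nat.card (stabilizer (stabilizer McG ptA) ptB) :=
    Nat.card_congr ⟨fun g => ⟨⟨g.1, g.2.1⟩, g.2.2⟩, fun g => ⟨g.1.1, g.1.2, g.2⟩,
      fun g => rfl, fun g => rfl⟩
  omega

/-! ### Trees -/

/-- Entry of a tree. -/
def entry (t : List (ℕ × ℕ × ℕ)) (k : ℕ) : ℕ × ℕ × ℕ := t.getD k (0, 0, 0)

/-- A tree is grown by the generators in a list. -/
def treeOK (L : List ℕ) (t : List (ℕ × ℕ × ℕ)) : Bool :=
  allBelow t.length fun k => decide ((entry t k).1 < 275) && (Nat.beq k 0 ||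
    (decide ((entry t k).2.1 < k) && decide ((entry t k).2.2 < L.length) &&
      Nat.beq (at' (valOf (L.getD (entry t k).2.2 0)) (entry t (entry t k).2.1).1) (entry t k).1)) &&
    allBelow t.length fun l => Nat.beq k l || !Nat.beq (entry t k).1 (entry t l).1

/-- A value has order dividing three. -/
def cubeEq (R : ℕ) : Bool :=
  allBelow 275 fun i => decide (at' (valOf R) i < 275) &&
    decide (at' (valOf R) (at' (valOf R) i) < 275) &&
    Nat.beq (at' (valOf R) (at' (valOf R) (at' (valOf R) i))) i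

lemma el_cube {R : ℕ} (hR : R < progLen) (h : cubeEq R = true) : el R ^ 3 = 1 := by
  refine eq_of_smul_eq_smul fun i : Fin 275 => Fin.ext ?_
  have hi := allBelow_spec h i.1 i.2
  simp only [Bool.and_eq_true, decide_eq_true_eq] at hi
  rw [pow_succ', pow_two, mul_smul, mul_smul, one_smul, rep_lt hR, rep_lt hR, rep_lt hR]
  exact Nat.eq_of_beq_eq_true hi.2

/-- The conjugates of the generators of the elementary subgroup stay inside. -/
def normOK : Bool :=
  allBelow genE.length fun n => allBelow 4 fun k =>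
    decide ((tabE.getD n []).getD (aGen k) 0 < 81) &&
      pairEq (genE.getD n 0) (aIx (aGen k)) (aIx ((tabE.getD n []).getD (aGen k) 0)) (genE.getD n 0)

/-- All checks on the generators. -/
def checkE : Bool :=
  (genE.all fun n => decide (n < progLen) && fixes n 255 && fixes n 0 && cubeEq n) &&
  (genE1.all fun n => genE.contains n && fixes n 1) &&
  (genE2.all fun n => genE1.contains n && fixes n 2) &&
  treeOK genE orbOne && treeOK genE orbTwo && treeOK genE orbThree && treeOK genE orbSmall &&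
  treeOK genE1 orbMid && treeOK genE2 orbLow &&
  Nat.beq (entry orbOne 0).1 1 && Nat.beq orbOne.length 81 &&
  Nat.beq (entry orbMid 0).1 2 && Nat.beq orbMid.length 30 &&
  Nat.beq (entry orbLow 0).1 3 && Nat.beq orbLow.length 12 &&
  normOK

theorem checkE_ok : checkE = true := by decide +kernel

/-- The named elements of a list. -/
noncomputable def genSet (L : List ℕ) : Set McG := {g | ∃ n ∈ L, g = el n}

/-- The content of the checks. -/
structure EFacts : Prop where
  lt : ∀ n ∈ genE, n < progLen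
  fixA : ∀ n ∈ genE, el n • ptA = ptA
  fixB : ∀ n ∈ genE, el n • ptB = ptB
  cube : ∀ n ∈ genE, el n ^ 3 = 1
  sub1 : ∀ n ∈ genE1, n ∈ genE
  fix1 : ∀ n ∈ genE1, el n • (1 : Fin 275) = 1
  sub2 : ∀ n ∈ genE2, n ∈ genE1
  fix2 : ∀ n ∈ genE2, el n • (2 : Fin 275) = 2

lemma eFacts : EFacts := by
  have h := checkE_ok
  simp only [checkE, Bool.and_eq_true, List.all_eq_true, decide_eq_true_eq,
    List.contains_iff_mem] at h
  obtain ⟨⟨⟨⟨⟨⟨⟨⟨⟨⟨⟨⟨⟨⟨⟨h0, h1⟩, h2⟩, -⟩, -⟩, -⟩, -⟩, -⟩, -⟩, -⟩, -⟩, -⟩, -⟩, -⟩, -⟩, -⟩ := h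
  have hlt : ∀ n ∈ genE, n < progLen := fun n hn => (h0 n hn).1.1.1
  have hsub1 : ∀ n ∈ genE1, n ∈ genE := fun n hn => (h1 n hn).1
  exact ⟨hlt, fun n hn => el_fix (hlt n hn) (h0 n hn).1.1.2,
    fun n hn => el_fix (hlt n hn) (h0 n hn).1.2, fun n hn => el_cube (hlt n hn) (h0 n hn).2,
    hsub1, fun n hn => el_fix (hlt n (hsub1 n hn)) (h1 n hn).2,
    fun n hn => (h2 n hn).1, fun n hn => el_fix (hlt n (hsub1 n (h2 n hn).1)) (h2 n hn).2⟩

/-- The point of a tree entry. -/
def treePt (t : List (ℕ × ℕ × ℕ)) (k : ℕ) : Fin 275 :=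
  ⟨(entry t k).1 % 275, Nat.mod_lt _ (by norm_num)⟩

lemma tree_orbit {L : List ℕ} {t : List (ℕ × ℕ × ℕ)} (h : treeOK L t = true)
    (hL : ∀ n ∈ L, n < progLen) :
    ∀ k, k < t.length → treePt t k ∈ orbit (Subgroup.closure (genSet L)) (treePt t 0) := by
  intro k
  induction k using Nat.strong_induction_on with
  | _ k ih =>
    intro hk
    have hc := allBelow_spec h k hk
    simp only [Bool.and_eq_true, Bool.or_eq_true, decide_eq_true_eq] at hc
    obtain ⟨⟨hlt, hstep⟩, -⟩ := hc
    rcases hstep with h0 | ⟨⟨hp, hg⟩, himg⟩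
    · rw [Nat.eq_of_beq_eq_true h0]; exact mem_orbit_self _
    obtain ⟨g, hg'⟩ := ih _ hp (hp.trans hk)
    have hmem : L.getD (entry t k).2.2 0 ∈ L := by
      rw [List.getD_eq_getElem _ _ hg]; exact List.getElem_mem hg
    refine ⟨⟨el (L.getD (entry t k).2.2 0), Subgroup.subset_closure ⟨_, hmem, rfl⟩⟩ * g,
      (mul_smul _ g (treePt t 0)).trans ((congrArg _ hg').trans ?_)⟩
    refine Fin.ext ((rep_lt (hL _ hmem) _).trans ?_)
    have hpl := allBelow_spec h (entry t k).2.1 (hp.trans hk)
    simp only [Bool.and_eq_true, decide_eq_true_eq] at hpl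
    simp only [treePt]
    rw [Nat.mod_eq_of_lt hpl.1.1, Nat.mod_eq_of_lt hlt]
    exact Nat.eq_of_beq_eq_true himg

lemma tree_card {L : List ℕ} {t : List (ℕ × ℕ × ℕ)} (h : treeOK L t = true)
    (hL : ∀ n ∈ L, n < progLen) :
    t.length ≤ (orbit (Subgroup.closure (genSet L)) (treePt t 0)).ncard := by
  have hinj : Function.Injective fun k : Fin t.length => treePt t k.1 := by
    intro k l e
    have hk := allBelow_spec h k.1 k.2
    have hl := allBelow_spec h l.1 l.2
    simp only [Bool.and_eq_true, decide_eq_true_eq] at hk hl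
    have h1 := allBelow_spec hk.2 l.1 l.2
    simp only [Bool.or_eq_true, Bool.not_eq_true'] at h1
    rcases h1 with h1 | h1
    · exact Fin.ext (Nat.eq_of_beq_eq_true h1)
    · have e' := congrArg Fin.val e
      simp only [treePt, Nat.mod_eq_of_lt hk.1.1, Nat.mod_eq_of_lt hl.1.1] at e'
      rw [e'] at h1
      simp at h1
  calc t.length = (Set.range fun k : Fin t.length => treePt t k.1).ncard := by
        rw [← Set.image_univ, Set.ncard_image_of_injective _ hinj, Set.ncard_univ, Nat.card_fin]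
    _ ≤ _ := Set.ncard_le_ncard (Set.range_subset_iff.2 fun k => tree_orbit h hL k.1 k.2)
        (Set.toFinite _)

lemma card_step {L L' : List ℕ} {t : List (ℕ × ℕ × ℕ)} (h : treeOK L t = true)
    (hL : ∀ n ∈ L, n < progLen) (hsub : ∀ n ∈ L', n ∈ L)
    (hfix : ∀ n ∈ L', el n • treePt t 0 = treePt t 0) :
    t.length * Nat.card (Subgroup.closure (genSet L')) ≤ Nat.card (Subgroup.closure (genSet L)) := by
  set K := Subgroup.closure (genSet L)
  rw [← Nat.card_congr (orbitProdStabilizerEquivGroup K (treePt t 0)), Nat.card_prod,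
    Nat.card_coe_set_eq]
  refine Nat.mul_le_mul (tree_card h hL) ?_
  have hle : Subgroup.closure (genSet L') ≤ K := by
    refine Subgroup.closure_mono ?_
    rintro g ⟨n, hn, rfl⟩
    exact ⟨n, hsub n hn, rfl⟩
  have hst : Subgroup.closure (genSet L') ≤ stabilizer McG (treePt t 0) := by
    refine (Subgroup.closure_le _).2 ?_
    rintro g ⟨n, hn, rfl⟩
    exact hfix n hn
  refine Nat.card_le_card_of_injective
    (fun g : Subgroup.closure (genSet L') => (⟨⟨g.1, hle g.2⟩, hst g.2⟩ : stabilizer K (treePt t 0)))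
    fun g g' e => Subtype.ext (congrArg (fun x : stabilizer K (treePt t 0) => x.1.1) e)

lemma closure_genE : Subgroup.closure (genSet genE) = pairE := by
  have h := checkE_ok
  simp only [checkE, Bool.and_eq_true] at h
  obtain ⟨⟨⟨⟨⟨⟨⟨⟨⟨⟨⟨⟨⟨⟨⟨-, -⟩, -⟩, hO⟩, -⟩, -⟩, -⟩, hM⟩, hW⟩, hO0⟩, hO1⟩, hM0⟩, hM1⟩, hW0⟩, hW1⟩,
    -⟩ := h
  have hp1 : treePt orbOne 0 = 1 :=
    Fin.ext (by simp [treePt, Nat.eq_of_beq_eq_true hO0])
  have hp2 : treePt orbMid 0 = 2 :=
    Fin.ext (by simp [treePt, Nat.eq_of_beq_eq_true hM0])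
  refine Subgroup.eq_of_le_of_card_ge ?_ ?_
  · refine (Subgroup.closure_le _).2 ?_
    rintro g ⟨n, hn, rfl⟩
    exact ⟨eFacts.fixA n hn, eFacts.fixB n hn⟩
  · have hlt1 : ∀ n ∈ genE1, n < progLen := fun n hn => eFacts.lt n (eFacts.sub1 n hn)
    have h1 := card_step hO eFacts.lt eFacts.sub1 (fun n hn => by rw [hp1]; exact eFacts.fix1 n hn)
    have h2 := card_step hM hlt1 eFacts.sub2 (fun n hn => by rw [hp2]; exact eFacts.fix2 n hn)
    have h3 := card_step hW (L' := []) (fun n hn => hlt1 n (eFacts.sub2 n hn))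
      (fun n hn => absurd hn List.not_mem_nil) (fun n hn => absurd hn List.not_mem_nil)
    have h4 : 1 ≤ Nat.card (Subgroup.closure (genSet [])) := Nat.card_pos
    rw [Nat.eq_of_beq_eq_true hO1] at h1
    rw [Nat.eq_of_beq_eq_true hM1] at h2
    rw [Nat.eq_of_beq_eq_true hW1] at h3
    rw [card_pairE]
    nlinarith

lemma pairE_norm : pairE ≤ Subgroup.normalizer (subA : Set McG) := by
  rw [← closure_genE, Subgroup.closure_le]
  rintro g ⟨n, hn, rfl⟩
  obtain ⟨i, hi, rfl⟩ := List.mem_iff_getElem.1 hn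
  have h := checkE_ok
  simp only [checkE, Bool.and_eq_true] at h
  have hN := h.2
  rw [normOK] at hN
  have hi' := allBelow_spec hN i hi
  have hmap : subA.map (MulAut.conj (el genE[i])).toMonoidHom = subA := by
    refine Subgroup.eq_of_le_of_card_ge ?_
      (Subgroup.card_map_of_injective (MulAut.conj (el genE[i])).injective).ge
    rw [subA, MonoidHom.map_closure, Subgroup.closure_le]
    rintro _ ⟨_, ⟨k, rfl⟩, rfl⟩
    have hk := allBelow_spec hi' k.1 k.2
    rw [List.getD_eq_getElem _ _ hi, Bool.and_eq_true, decide_eq_true_eq] at hk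
    have e : el genE[i] * av (agenFin k) = av ⟨_, hk.1⟩ * el genE[i] :=
      el_pair (eFacts.lt _ hn) (aIx_lt (agenFin k)) (aIx_lt ⟨_, hk.1⟩) (eFacts.lt _ hn) hk.2
    show el genE[i] * av (agenFin k) * (el genE[i])⁻¹ ∈ subA
    rw [e, mul_inv_cancel_right]
    exact av_mem _
  rw [SetLike.mem_coe, Subgroup.mem_normalizer_iff]
  intro z
  constructor
  · intro hz
    rw [← hmap]
    exact Subgroup.mem_map_of_mem _ hz
  · intro hz
    rw [← hmap] at hz
    obtain ⟨w, hw, e⟩ := hz
    rwa [← (MulAut.conj (el genE[i])).injective e]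

/-! ### Orbits -/

/-- The label of the orbit of a point. -/
def lab (i : ℕ) : ℕ :=
  Nat.land (Nat.shiftRight
    0x1249249244a48920a591d9257258e38959629525238ec75292c51271c95c91d893aa26a24d271292ab1c71c8da4ac4927146d291251d91271d5138e28e47126939525128d4aa26a26924d375cae355d6db4d3b5a8da6eb6da6d371b4ebadb8da6e369a6d375a691
    (Nat.mul 3 i)) 7

/-- The trees of the four longer orbits. -/
def orbList (k : ℕ) : List (ℕ × ℕ × ℕ) :=
  [orbOne, orbTwo, orbThree, orbSmall].getD k []

/-- The labels describe the orbits. -/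
def labOK : Bool :=
  allBelow 275 fun i => bif Nat.beq (lab i) 0 then Nat.beq i 255
    else bif Nat.beq (lab i) 1 then Nat.beq i 0
    else decide (lab i < 6) && (orbList (lab i - 2)).any fun e => Nat.beq e.1 i

theorem lab_ok : labOK = true := by decide +kernel

theorem lab_self : (allBelow 4 fun k => allBelow (orbList k).length fun l =>
    Nat.beq (lab (entry (orbList k) l).1) (k + 2)) = true := by decide +kernel

lemma labOrbit_ok (k : Fin 4) : treeOK genE (orbList k.1) = true := by
  have h := checkE_ok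
  simp only [checkE, Bool.and_eq_true] at h
  obtain ⟨⟨⟨⟨⟨⟨⟨⟨⟨⟨⟨⟨⟨⟨⟨-, -⟩, -⟩, h0⟩, h1⟩, h2⟩, h3⟩, -⟩, -⟩, -⟩, -⟩, -⟩, -⟩, -⟩, -⟩, -⟩ := h
  match k with
  | 0 => exact (congrArg (treeOK genE) (rfl : orbList 0 = orbOne)).trans h0
  | 1 => exact (congrArg (treeOK genE) (rfl : orbList 1 = orbTwo)).trans h1
  | 2 => exact (congrArg (treeOK genE) (rfl : orbList 2 = orbThree)).trans h2
  | 3 => exact (congrArg (treeOK genE) (rfl : orbList 3 = orbSmall)).trans h3

lemma mem_of_lab {S : Set (Fin 275)} (hS : ∀ e ∈ pairE, ∀ z ∈ S, e • z ∈ S) {i j : Fin 275}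
    (hi : i ∈ S) (hij : lab i.1 = lab j.1) : j ∈ S := by
  have horb : ∀ z : Fin 275, (z = ptA ∧ lab z.1 = 0) ∨ (z = ptB ∧ lab z.1 = 1) ∨
      ∃ (k : Fin 4) (g : pairE), lab z.1 = k.1 + 2 ∧
        g.1 • treePt (orbList k.1) 0 = z := by
    intro z
    have h := allBelow_spec lab_ok z.1 z.2
    by_cases h0 : lab z.1 = 0
    · rw [h0] at h
      exact Or.inl ⟨Fin.ext (Nat.eq_of_beq_eq_true h), h0⟩
    by_cases h1 : lab z.1 = 1
    · rw [h1] at h
      exact Or.inr (Or.inl ⟨Fin.ext (Nat.eq_of_beq_eq_true h), h1⟩)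
    rw [show Nat.beq (lab z.1) 0 = false from Bool.eq_false_iff.2 fun e => h0 (Nat.eq_of_beq_eq_true e),
      show Nat.beq (lab z.1) 1 = false from Bool.eq_false_iff.2 fun e => h1 (Nat.eq_of_beq_eq_true e), cond_false, cond_false,
      Bool.and_eq_true, decide_eq_true_eq, List.any_eq_true] at h
    obtain ⟨hlt, e, he, hez⟩ := h
    have hk : lab z.1 - 2 < 4 := by omega
    obtain ⟨l, hl, rfl⟩ := List.mem_iff_getElem.1 he
    obtain ⟨g, hg⟩ := tree_orbit (labOrbit_ok ⟨_, hk⟩) eFacts.lt l hl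
    refine Or.inr (Or.inr ⟨⟨_, hk⟩, ⟨g.1, closure_genE.le g.2⟩, by simp only; omega, ?_⟩)
    rw [show g.1 • treePt (orbList (lab z.1 - 2)) 0 = treePt (orbList (lab z.1 - 2)) l from hg]
    refine Fin.ext ?_
    simp only [treePt, entry, List.getD_eq_getElem _ _ hl, Nat.eq_of_beq_eq_true hez,
      Nat.mod_eq_of_lt z.2]
  rcases horb i with ⟨rfl, h⟩ | ⟨rfl, h⟩ | ⟨k, g, h, rfl⟩
  all_goals rcases horb j with ⟨rfl, h'⟩ | ⟨rfl, h'⟩ | ⟨k', g', h', rfl⟩
  all_goals first | exact hi | omega | skip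
  obtain rfl : k = k' := Fin.ext (by omega)
  have h1 := hS g.1⁻¹ (inv_mem g.2) _ hi
  rw [inv_smul_smul] at h1
  exact hS g'.1 g'.2 _ h1

/-- The number of points whose label is selected. -/
def selCount (t : ℕ) : ℕ := ((List.range 275).filter fun i => bit t (lab i)).length

/-- The checks on selections. -/
def selOK : Bool :=
  allBelow 64 fun t => !Nat.beq (112 % selCount t) 0 ||
    ((!bit t 0 || Nat.beq t 1 || Nat.beq t 3 || (!bit t 1 && bit t 5)) &&
    (!bit t 1 || Nat.beq t 2 || Nat.beq t 3 || (!bit t 0 && bit t 5)) &&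
    (!bit t 1 || (allBelow 275 fun i => !bit t (lab i) || bit (adjRow 255) i) == false ||
      Nat.beq t 2 || Nat.beq (selCount t) 112))

theorem sel_ok : selOK = true := by decide +kernel

theorem lab_ab : (Nat.beq (lab 255) 0 && Nat.beq (lab 0) 1 && Nat.beq (lab 6) 5) = true := by
  decide +kernel

/-- The selection word of a set. -/
noncomputable def selWord (S : Set (Fin 275)) : ℕ :=
  open Classical in
  (if ptA ∈ S then 1 else 0) + (if ptB ∈ S then 2 else 0) +
    (if treePt orbOne 0 ∈ S then 4 else 0) + (if treePt orbTwo 0 ∈ S then 8 else 0) +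
    (if treePt orbThree 0 ∈ S then 16 else 0) + (if treePt orbSmall 0 ∈ S then 32 else 0)

lemma sel_spec {S : Set (Fin 275)} (hS : ∀ e ∈ pairE, ∀ z ∈ S, e • z ∈ S) :
    selWord S < 64 ∧ (∀ i : Fin 275, i ∈ S ↔ bit (selWord S) (lab i.1) = true) ∧
      S.ncard = selCount (selWord S) := by
  have hl := allBelow_spec lab_self
  have hrep : ∀ k : Fin 4, lab (treePt (orbList k.1) 0).1 = k.1 + 2 := by
    intro k
    have h1 := labOrbit_ok k
    have hpos : 0 < (orbList k.1).length := by fin_cases k <;> decide +kernel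
    have h2 := allBelow_spec (hl k.1 k.2) 0 hpos
    have h3 := allBelow_spec h1 0 hpos
    simp only [Bool.and_eq_true, decide_eq_true_eq] at h3
    simp only [treePt, Nat.mod_eq_of_lt h3.1.1]
    exact Nat.eq_of_beq_eq_true h2
  have hab := lab_ab
  simp only [Bool.and_eq_true] at hab
  have hA0 : lab ptA.1 = 0 := Nat.eq_of_beq_eq_true hab.1.1
  have hB1 : lab ptB.1 = 1 := Nat.eq_of_beq_eq_true hab.1.2
  have hmem : ∀ (i : Fin 275) (r : Fin 275), lab r.1 = lab i.1 → (i ∈ S ↔ r ∈ S) :=
    fun i r h => ⟨fun hi => mem_of_lab hS hi h.symm, fun hr => mem_of_lab hS hr h⟩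
  have hbound : selWord S < 64 := by
    simp only [selWord]
    split_ifs <;> norm_num
  have hiff : ∀ i : Fin 275, i ∈ S ↔ bit (selWord S) (lab i.1) = true := by
    intro i
    have hlt : lab i.1 < 6 := by
      have h := allBelow_spec lab_ok i.1 i.2
      by_contra hne
      rw [show Nat.beq (lab i.1) 0 = false from
          Bool.eq_false_iff.2 fun e => by have := Nat.eq_of_beq_eq_true e; omega,
        show Nat.beq (lab i.1) 1 = false from
          Bool.eq_false_iff.2 fun e => by have := Nat.eq_of_beq_eq_true e; omega, cond_false, cond_false,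
        Bool.and_eq_true, decide_eq_true_eq] at h
      omega
    have key : ∀ (b0 b1 b2 b3 b4 b5 : Bool) (k : Fin 6),
        bit ((if b0 then 1 else 0) + (if b1 then 2 else 0) + (if b2 then 4 else 0) +
          (if b3 then 8 else 0) + (if b4 then 16 else 0) + (if b5 then 32 else 0)) k.1
          = [b0, b1, b2, b3, b4, b5].getD k.1 false := by decide +kernel
    classical
    have hw : selWord S = (if decide (ptA ∈ S) then 1 else 0) +
        (if decide (ptB ∈ S) then 2 else 0) + (if decide (treePt orbOne 0 ∈ S) then 4 else 0) +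
        (if decide (treePt orbTwo 0 ∈ S) then 8 else 0) +
        (if decide (treePt orbThree 0 ∈ S) then 16 else 0) +
        (if decide (treePt orbSmall 0 ∈ S) then 32 else 0) := by
      simp only [selWord, decide_eq_true_eq]
    rw [hw, key _ _ _ _ _ _ ⟨lab i.1, hlt⟩]
    obtain h | h | h | h | h | h : lab i.1 = 0 ∨ lab i.1 = 1 ∨ lab i.1 = 2 ∨ lab i.1 = 3 ∨
      lab i.1 = 4 ∨ lab i.1 = 5 := by omega
    · rw [hmem i ptA (hA0.trans h.symm)]; simp [h]
    · rw [hmem i ptB (hB1.trans h.symm)]; simp [h]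
    · rw [hmem i _ ((hrep 0).trans h.symm)]; simp [h, orbList]
    · rw [hmem i _ ((hrep 1).trans h.symm)]; simp [h, orbList]
    · rw [hmem i _ ((hrep 2).trans h.symm)]; simp [h, orbList]
    · rw [hmem i _ ((hrep 3).trans h.symm)]; simp [h, orbList]
  refine ⟨hbound, hiff, ?_⟩
  rw [selCount, ← List.toFinset_card_of_nodup (List.Nodup.filter _ List.nodup_range),
    ← Set.ncard_coe_finset]
  refine Set.ncard_congr (fun i _ => i.1) (fun i hi => ?_) (fun i j _ _ h => Fin.ext h) ?_
  · simp [i.2, (hiff i).1 hi]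
  · intro n hn
    simp only [List.coe_toFinset, List.mem_filter, List.mem_range] at hn
    exact ⟨⟨n, hn.1⟩, (hiff _).2 hn.2, rfl⟩

lemma sel_cases {S : Set (Fin 275)} (hS : ∀ e ∈ pairE, ∀ z ∈ S, e • z ∈ S)
    (hd : S.ncard ∣ 112) :
    (ptA ∈ S → S = {ptA} ∨ S = {ptA, ptB} ∨ (ptB ∉ S ∧ ptC ∈ S)) ∧
    (ptB ∈ S → S = {ptB} ∨ S = {ptA, ptB} ∨ (ptA ∉ S ∧ ptC ∈ S)) ∧
    (ptB ∈ S → S ⊆ {z | Adj ptA z} → S = {ptB} ∨ S.ncard = 112) := by
  obtain ⟨hlt, hiff, hn⟩ := sel_spec hS
  set t := selWord S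
  have h := allBelow_spec sel_ok t hlt
  rw [hn] at hd
  have hd0 : Nat.beq (112 % selCount t) 0 = true := by
    rw [Nat.mod_eq_zero_of_dvd hd]; rfl
  rw [hd0, Bool.not_true, Bool.false_or] at h
  simp only [Bool.and_eq_true, Bool.or_eq_true, Bool.not_eq_true'] at h
  obtain ⟨⟨hA, hB⟩, hN⟩ := h
  have hab := lab_ab
  simp only [Bool.and_eq_true] at hab
  have hA0 : lab ptA.1 = 0 := Nat.eq_of_beq_eq_true hab.1.1
  have hB1 : lab ptB.1 = 1 := Nat.eq_of_beq_eq_true hab.1.2
  have hC5 : lab ptC.1 = 5 := Nat.eq_of_beq_eq_true hab.2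
  have single : ∀ i : Fin 275, (lab i.1 = 0 → i = ptA) ∧ (lab i.1 = 1 → i = ptB) ∧
      lab i.1 < 6 := by
    intro i
    have h := allBelow_spec lab_ok i.1 i.2
    refine ⟨fun e => ?_, fun e => ?_, ?_⟩
    · rw [e] at h; exact Fin.ext (Nat.eq_of_beq_eq_true h)
    · rw [e] at h; exact Fin.ext (Nat.eq_of_beq_eq_true h)
    · by_contra hne
      rw [show Nat.beq (lab i.1) 0 = false from
          Bool.eq_false_iff.2 fun e => by have := Nat.eq_of_beq_eq_true e; omega,
        show Nat.beq (lab i.1) 1 = false from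
          Bool.eq_false_iff.2 fun e => by have := Nat.eq_of_beq_eq_true e; omega, cond_false, cond_false,
        Bool.and_eq_true, decide_eq_true_eq] at h
      omega
  have small : ∀ k : Fin 6, (bit 1 k.1 = true ↔ k.1 = 0) ∧ (bit 2 k.1 = true ↔ k.1 = 1) ∧
      (bit 3 k.1 = true ↔ k.1 = 0 ∨ k.1 = 1) := by decide
  have sa : t = 1 → S = {ptA} := by
    intro e
    ext i
    rw [hiff, e, (small ⟨_, (single i).2.2⟩).1, Set.mem_singleton_iff]
    exact ⟨(single i).1, fun h => by subst h; simp only [hA0]⟩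
  have sb : t = 2 → S = {ptB} := by
    intro e
    ext i
    rw [hiff, e, (small ⟨_, (single i).2.2⟩).2.1, Set.mem_singleton_iff]
    exact ⟨(single i).2.1, fun h => by subst h; simp only [hB1]⟩
  have sab : t = 3 → S = {ptA, ptB} := by
    intro e
    ext i
    rw [hiff, e, (small ⟨_, (single i).2.2⟩).2.2, Set.mem_insert_iff, Set.mem_singleton_iff]
    exact ⟨fun h => h.imp (single i).1 (single i).2.1,
      fun h => h.imp (fun h => by subst h; simp only [hA0]) (fun h => by subst h; simp only [hB1])⟩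
  refine ⟨fun ha => ?_, fun hb => ?_, fun hb hsub => ?_⟩
  · rw [hiff, hA0] at ha
    rcases hA with ((h1 | h1) | h1) | h1
    · rw [ha] at h1; exact Bool.noConfusion h1
    · exact Or.inl (sa (Nat.eq_of_beq_eq_true h1))
    · exact Or.inr (Or.inl (sab (Nat.eq_of_beq_eq_true h1)))
    · exact Or.inr (Or.inr ⟨fun h => by rw [hiff, hB1, h1.1] at h; exact Bool.noConfusion h,
        by rw [hiff, hC5]; exact h1.2⟩)
  · rw [hiff, hB1] at hb
    rcases hB with ((h1 | h1) | h1) | h1
    · rw [hb] at h1; exact Bool.noConfusion h1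
    · exact Or.inl (sb (Nat.eq_of_beq_eq_true h1))
    · exact Or.inr (Or.inl (sab (Nat.eq_of_beq_eq_true h1)))
    · exact Or.inr (Or.inr ⟨fun h => by rw [hiff, hA0, h1.1] at h; exact Bool.noConfusion h,
        by rw [hiff, hC5]; exact h1.2⟩)
  · rw [hiff, hB1] at hb
    rcases hN with ((h1 | h1) | h1) | h1
    · rw [hb] at h1; exact Bool.noConfusion h1
    · exfalso
      have hall : (allBelow 275 fun i => !bit t (lab i) || bit (adjRow 255) i) = true := by
        rw [allBelow, List.all_eq_true]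
        intro q _
        rw [List.all_eq_true]
        intro r _
        by_cases hr : 64 * q + r < 275
        · cases hbit : bit t (lab (64 * q + r))
          · simp
          · have := (adj_row ptA ⟨_, hr⟩).2 (hsub ((hiff ⟨_, hr⟩).2 hbit))
            simp [show bit (adjRow 255) (64 * q + r) = true from this]
        · simp [hr]
      rw [hall] at h1
      exact Bool.noConfusion (beq_iff_eq.1 h1)
    · exact Or.inl (sb (Nat.eq_of_beq_eq_true h1))
    · exact Or.inr (hn.trans (Nat.eq_of_beq_eq_true h1))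

theorem fixA_ok : (allBelow 275 fun i => Nat.beq i 255 || Nat.beq i 0 ||
    !allBelow 4 fun k => fixes (aIx (aGen k)) i) = true := by decide +kernel

theorem fixAB_ok : (allBelow 4 fun k => fixes (aIx (aGen k)) 255 && fixes (aIx (aGen k)) 0) = true := by
  decide +kernel

lemma subA_fix {t : McG} (ht : t ∈ subA) : t • ptA = ptA ∧ t • ptB = ptB := by
  have hle : subA ≤ pairE := by
    refine (Subgroup.closure_le _).2 ?_
    rintro _ ⟨k, rfl⟩
    have h := allBelow_spec fixAB_ok k.1 k.2
    rw [Bool.and_eq_true] at h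
    exact ⟨el_fix (aIx_lt (agenFin k)) h.1, el_fix (aIx_lt (agenFin k)) h.2⟩
  exact hle ht

/-- The data for following the class of point stabilisers. -/
noncomputable def edgeData : EdgeData McG (Fin 275) where
  a := ptA
  b := ptB
  c := ptC
  P := subP
  A := subA
  E := pairE
  ne := by decide
  mem_E := fun _ => Iff.rfl
  card_G := card_mclG
  card_H := card_stab _
  card_H' := card_stab _
  card_E := card_pairE
  card_orb := card_orbit_ptB
  card_P := card_subP
  A_le_P := Subgroup.closure_mono Set.subset_union_left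
  card_A := card_subA
  A_unique := fun B hB hc _ hcomm => subA_unique B hB hc hcomm
  A_exp := fun _ hx => subA_exp hx
  A_comm := fun _ hx _ hy => subA_comm hx hy
  fix_A := fun z hz => by
    have h := allBelow_spec fixA_ok z.1 z.2
    simp only [Bool.or_eq_true, Bool.not_eq_true'] at h
    rcases h with (h | h) | h
    · exact Or.inl (Fin.ext (Nat.eq_of_beq_eq_true h))
    · exact Or.inr (Fin.ext (Nat.eq_of_beq_eq_true h))
    · exfalso
      have hall : (allBelow 4 fun k => fixes (aIx (aGen k)) z.1) = true := by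
        rw [allBelow, List.all_eq_true]
        intro q _
        rw [List.all_eq_true]
        intro r _
        by_cases hr : 64 * q + r < 4
        · have h1 := congrArg Fin.val (hz _ (av_mem (agenFin ⟨_, hr⟩)))
          rw [av, rep_lt (aIx_lt _)] at h1
          rw [show fixes (aIx (aGen (64 * q + r))) z.1 = true by
            rw [fixes]; simpa [agenFin] using h1]
          simp
        · simp [hr]
      rw [hall] at h
      exact Bool.noConfusion h
  A_fix := fun _ ht => subA_fix ht
  E_norm := pairE_norm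
  E_gen := by
    rw [← closure_genE]
    refine Subgroup.closure_mono ?_
    rintro g ⟨n, hn, rfl⟩
    exact ⟨Subgroup.subset_closure ⟨n, hn, rfl⟩, eFacts.cube n hn⟩
  set_a := fun _ hS ha hd => (sel_cases hS hd).1 ha
  set_b := fun _ hS hb hd => (sel_cases hS hd).2.1 hb
  set_nbr := fun _ hS hb hsub hd => (sel_cases hS hd).2.2 hb (orbit_ptB ▸ hsub)

end Cfsg.Agent.H32.OutMcL
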