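import Cfsg.Agent.H92.McLOrbit
import Cfsg.Agent.H92.LeechFrames
import Cfsg.Agent.Golay.ConwaySimple
import Cfsg.Agent.H32.OutMcL.Data

/-!
The stabiliser of the two reference vectors as a permutation group on the 275 vectors of its
certificate, with packed permutations for its named elements.
-/

set_option autoImplicit false
set_option Elab.async false

namespace Cfsg.Agent.H32.OutMcL

open Cfsg Cfsg.Agent.Golay Cfsg.Agent.H92.LeechOrbit

/-! ### The group and its action -/

/-- The stabiliser of the two reference vectors. -/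
abbrev McG : Subgroup Co0 := fixer mclCert

lemma mcl_N : Nat.beq mclCert.N 275 = true := by decide +kernel

lemma mcl_N' : mclCert.N = 275 := Nat.eq_of_beq_eq_true mcl_N

lemma mem_target {g : Co0} (hg : g ∈ McG) {x : leechLattice} (hx : x ∈ target mclCert) :
    g • x ∈ target mclCert := by
  refine ⟨by rw [co0_sqNorm]; exact hx.1, fun r hr => ?_⟩
  have hL : inLeech (dec r.1) = true := by
    have h := mclCert_ok
    simp only [certOK, Bool.and_eq_true, decide_eq_true_eq, List.all_eq_true, inLeechCode] at h
    exact h.1.1.1.1.1.1.2 r hr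
  set w : leechLattice := ⟨dec r.1, mem_of_inLeech hL⟩ with hw
  have : g • w = w := hg w ⟨r, hr, rfl⟩
  show dotInt w.1 (g • x).1 = r.2
  rw [← this, co0_dot]
  exact hx.2 r hr

/-- The vector of an index. -/
noncomputable def vec (i : Fin 275) : leechLattice := vecAt mclCert i.1

lemma vec_dec (i : Fin 275) : (vec i).1 = dec (mclCert.code i.1) := by
  obtain ⟨v, hv, -⟩ := (cert_spec mclCert_ok).1 i.1 (i.2.trans_eq mcl_N'.symm)
  rw [vec, vecAt, dif_pos (hv ▸ v.2)]

lemma vec_injective : Function.Injective vec := by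
  intro i j h
  have h1 := congrArg Subtype.val h
  rw [vec_dec, vec_dec] at h1
  exact Fin.ext ((cert_spec mclCert_ok).2 (show i.1 < mclCert.N from i.2.trans_eq mcl_N'.symm)
    (show j.1 < mclCert.N from j.2.trans_eq mcl_N'.symm) (dec_injOn_of (code_lt _ _) (code_lt _ _) h1))

lemma mem_target_iff {x : leechLattice} : x ∈ target mclCert ↔ ∃ i, vec i = x := by
  rw [target_eq_image mclCert_ok mclCert_cover]
  constructor
  · rintro ⟨i, hi, rfl⟩; exact ⟨⟨i, Nat.lt_of_lt_of_eq hi mcl_N'⟩, rfl⟩
  · rintro ⟨i, rfl⟩; exact ⟨i.1, i.2.trans_eq mcl_N'.symm, rfl⟩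

lemma exists_smul_vec (g : McG) (i : Fin 275) : ∃ j, vec j = g.1 • vec i :=
  mem_target_iff.1 (mem_target g.2 (mem_target_iff.2 ⟨i, rfl⟩))

noncomputable instance : SMul McG (Fin 275) := ⟨fun g i => (exists_smul_vec g i).choose⟩

lemma vec_smul (g : McG) (i : Fin 275) : vec (g • i) = g.1 • vec i :=
  (exists_smul_vec g i).choose_spec

noncomputable instance actionMcG : MulAction McG (Fin 275) where
  one_smul i := vec_injective (by rw [vec_smul]; exact one_smul Co0 (vec i))
  mul_smul g h i := vec_injective (by
    rw [vec_smul, vec_smul, vec_smul]; exact mul_smul g.1 h.1 (vec i))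

/-! ### Packed permutations -/

/-- The image of a point under a packed permutation. -/
def at' (P i : ℕ) : ℕ := Nat.land (Nat.shiftRight P (Nat.mul 9 i)) 511

/-- A packed permutation is the one of a group element. -/
def Rep (g : McG) (P : ℕ) : Prop := ∀ i : Fin 275, (g • i).1 = at' P i.1

/-- A value of the program. -/
def valOf (k : ℕ) : ℕ := vals.getD k 0

/-- A packed product. -/
def mulOK (R P Q : ℕ) : Bool :=
  allBelow 275 fun i => decide (at' Q i < 275) && Nat.beq (at' R i) (at' P (at' Q i))

/-- A packed inverse. -/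
def invOK (R P : ℕ) : Bool :=
  allBelow 275 fun i => decide (at' R i < 275) && Nat.beq (at' P (at' R i)) i

/-- The check of one generator. -/
noncomputable def genOK (P k : ℕ) : Bool :=
  decide (k < mclCert.gens.length) &&
    allBelow 275 fun i => decide (at' P i < 275) &&
      chk (mclCert.gens.getD k []) (mclCert.code i) (mclCert.code (at' P i))

/-- The check of one step. -/
noncomputable def opOK (n : ℕ) : Op → Bool
  | .gen k => genOK (valOf n) k
  | .mul i j => decide (i < n) && decide (j < n) && mulOK (valOf n) (valOf i) (valOf j)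
  | .inv i => decide (i < n) && invOK (valOf n) (valOf i)

theorem prog_ok : (allBelow prog.length fun n => opOK n (prog.getD n (.gen 0))) = true := by
  decide +kernel

lemma rep_gen {P k : ℕ} (h : genOK P k = true) : ∃ g : McG, Rep g P := by
  rw [genOK, Bool.and_eq_true, decide_eq_true_eq] at h
  obtain ⟨hk, h⟩ := h
  have hw : mclCert.gens.getD k [] ∈ mclCert.gens := by
    rw [List.getD_eq_getElem _ _ hk]; exact List.getElem_mem hk
  have hc := mclCert_ok
  simp only [certOK, Bool.and_eq_true, List.all_eq_true] at hc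
  obtain ⟨hatoms, hfix⟩ := hc.1.1.2 _ hw
  have hat : (mclCert.gens.getD k []).all atomOK = true := List.all_eq_true.2 hatoms
  have hmem : wordEl (mclCert.gens.getD k []) ∈ McG := by
    rintro v ⟨r, hr, hv⟩
    exact Subtype.ext ((chk_sound hat (hfix r hr) hv).trans hv.symm)
  refine ⟨⟨_, hmem⟩, fun i => ?_⟩
  have hi := allBelow_spec h i.1 i.2
  rw [Bool.and_eq_true, decide_eq_true_eq] at hi
  have h1 : (wordEl (mclCert.gens.getD k []) • vec i : leechLattice) = vec ⟨_, hi.1⟩ :=
    Subtype.ext ((chk_sound hat hi.2 (vec_dec i)).trans (vec_dec ⟨_, hi.1⟩).symm)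
  exact congrArg Fin.val (vec_injective ((vec_smul ⟨wordEl (mclCert.gens.getD k []), hmem⟩ i).trans h1))

lemma rep_mul {R P Q : ℕ} {g h : McG} (hR : mulOK R P Q = true) (hg : Rep g P) (hh : Rep h Q) :
    Rep (g * h) R := by
  intro i
  have hi := allBelow_spec hR i.1 i.2
  rw [Bool.and_eq_true] at hi
  rw [mul_smul, hg, hh, Nat.eq_of_beq_eq_true hi.2]

lemma rep_inv {R P : ℕ} {g : McG} (hR : invOK R P = true) (hg : Rep g P) : Rep g⁻¹ R := by
  intro i
  have hi := allBelow_spec hR i.1 i.2
  rw [Bool.and_eq_true, decide_eq_true_eq] at hi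
  have h1 : g • (⟨at' R i.1, hi.1⟩ : Fin 275) = i :=
    Fin.ext ((hg _).trans (Nat.eq_of_beq_eq_true hi.2))
  exact congrArg Fin.val (show g⁻¹ • i = ⟨at' R i.1, hi.1⟩ by rw [inv_smul_eq_iff, h1])

/-- Every value of the program is the permutation of a group element. -/
theorem exists_rep : ∀ n, n < prog.length → ∃ g : McG, Rep g (valOf n) := by
  intro n
  induction n using Nat.strong_induction_on with
  | _ n ih =>
    intro hn
    have h := allBelow_spec prog_ok n hn
    revert h
    cases prog.getD n (.gen 0) with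
    | gen k => exact rep_gen
    | mul i j =>
      intro h
      simp only [opOK, Bool.and_eq_true, decide_eq_true_eq] at h
      obtain ⟨g, hg⟩ := ih i h.1.1 (by omega)
      obtain ⟨k, hk⟩ := ih j h.1.2 (by omega)
      exact ⟨g * k, rep_mul h.2 hg hk⟩
    | inv i =>
      intro h
      simp only [opOK, Bool.and_eq_true, decide_eq_true_eq] at h
      obtain ⟨g, hg⟩ := ih i h.1 (by omega)
      exact ⟨g⁻¹, rep_inv h.2 hg⟩

/-- The element of a step of the program. -/
noncomputable def el (n : ℕ) : McG :=
  open Classical in if h : ∃ g : McG, Rep g (valOf n) then h.choose else 1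

lemma rep_el {n : ℕ} (hn : n < prog.length) : Rep (el n) (valOf n) := by
  rw [el, dif_pos (exists_rep n hn)]
  exact (exists_rep n hn).choose_spec

/-! ### Adjacency -/

/-- Two of the 275 points are adjacent. -/
def Adj (i j : Fin 275) : Prop := dotInt (vec i).1 (vec j).1 = 8

lemma adj_smul (g : McG) (i j : Fin 275) : Adj (g • i) (g • j) ↔ Adj i j := by
  rw [Adj, Adj, vec_smul, vec_smul, co0_dot]

/-- An entry of the adjacency table. -/
def adjB (i j : ℕ) : Bool :=
  Nat.beq (Nat.land (Nat.shiftRight adjTable (Nat.add (Nat.mul 275 i) j)) 1) 1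

/-- A row of the adjacency table. -/
def adjRow (i : ℕ) : ℕ :=
  Nat.land (Nat.shiftRight adjTable (Nat.mul 275 i))
    60708402882054033466233184588234965832575213720379360039119137804340758912662765567

/-- An entry of a row. -/
def bit (R j : ℕ) : Bool := Nat.beq (Nat.land (Nat.shiftRight R j) 1) 1

/-- Equality of truth values. -/
def beqB : Bool → Bool → Bool
  | true, b => b
  | false, b => !b

lemma beqB_eq : ∀ {a b : Bool}, beqB a b = true → a = b := by decide

theorem adj_root_ok : (allBelow 275 fun j => beqB (bit (adjRow mclCert.root) j)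
    (dotTest (mclCert.code mclCert.root) (mclCert.code j) 8)) = true := by
  decide +kernel

/-- The row of a point is the image of the row of its parent. -/
noncomputable def rowStep (i : ℕ) : Bool :=
  let P := valOf (mclCert.gen i)
  let R := adjRow i
  let S := adjRow (mclCert.par i)
  Nat.beq (mclCert.dep i) 0 || (decide (mclCert.gen i < 5) &&
    Nat.beq (at' P (mclCert.par i)) i && allBelow 275 fun j => beqB (bit R (at' P j)) (bit S j))

theorem adj_step_ok : (allBelow 275 rowStep) = true := by decide +kernel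

theorem gen_vals : (allBelow 5 fun k => decide (k < prog.length)) = true := by decide +kernel

/-- The adjacency table is correct. -/
theorem adj_row (i j : Fin 275) : bit (adjRow i.1) j.1 = true ↔ Adj i j := by
  suffices h : ∀ d (i : Fin 275), mclCert.dep i.1 ≤ d → ∀ j : Fin 275,
      bit (adjRow i.1) j.1 = true ↔ Adj i j from h _ i le_rfl j
  have hroot : ∀ i : Fin 275, mclCert.dep i.1 = 0 → i.1 = mclCert.root := by
    intro i h0
    have hc := mclCert_ok
    simp only [certOK, Bool.and_eq_true] at hc
    have := allBelow_spec hc.2 i.1 (i.2.trans_eq mcl_N'.symm)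
    rw [h0, beq_self_eq_true, cond_true, beq_iff_eq] at this
    exact this
  intro d
  induction d with
  | zero =>
    intro i hi j
    have e : i.1 = mclCert.root := hroot i (Nat.le_zero.1 hi)
    have h := beqB_eq (allBelow_spec adj_root_ok j.1 j.2)
    rw [← e, dotTest_eq] at h
    rw [h, decide_eq_true_eq, Adj, vec_dec, vec_dec]
  | succ d ih =>
    intro i hi j
    by_cases h0 : mclCert.dep i.1 = 0
    · exact ih i (by omega) j
    have hc := mclCert_ok
    simp only [certOK, Bool.and_eq_true] at hc
    have h1 := allBelow_spec hc.2 i.1 (i.2.trans_eq mcl_N'.symm)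
    rw [show (mclCert.dep i.1 == 0) = false by rw [beq_eq_false_iff_ne]; exact h0, cond_false] at h1
    simp only [Bool.and_eq_true, decide_eq_true_eq] at h1
    obtain ⟨⟨⟨hp, hdp⟩, -⟩, -⟩ := h1
    rw [mcl_N'] at hp
    have h := allBelow_spec adj_step_ok i.1 i.2
    simp only [rowStep, Bool.or_eq_true, Bool.and_eq_true, decide_eq_true_eq] at h
    obtain h | ⟨⟨hg, hmap⟩, hrow⟩ := h
    · exact absurd (Nat.eq_of_beq_eq_true h) h0
    have hlt : mclCert.gen i.1 < prog.length :=
      of_decide_eq_true (allBelow_spec gen_vals _ hg)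
    set g := el (mclCert.gen i.1)
    have hrep : Rep g _ := rep_el hlt
    set p : Fin 275 := ⟨mclCert.par i.1, hp⟩
    have hgp : g • p = i := Fin.ext ((hrep p).trans (Nat.eq_of_beq_eq_true hmap))
    obtain ⟨j', rfl⟩ : ∃ j', g • j' = j := ⟨g⁻¹ • j, smul_inv_smul g j⟩
    conv_rhs => rw [← hgp, adj_smul, ← ih p (show mclCert.dep (mclCert.par i.1) ≤ d by omega) j']
    rw [← beqB_eq (allBelow_spec hrow j'.1 j'.2), ← hrep j']

end Cfsg.Agent.H32.OutMcL
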